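import Groth.Agent.Lib.DenseProj.Basic
import Mathlib

/-! The completion of `A[1/t]` as a dense extension. -/

set_option autoImplicit false
universe u

namespace Groth.Agent.DenseProj

variable {A : Type u} [CommRing A] {t : A}

set_option quotPrecheck false in
local notation "Ah" => AdicCompletion (Ideal.span ({t} : Set A)) A
set_option quotPrecheck false in
local notation "t'" => algebraMap A (AdicCompletion (Ideal.span ({t} : Set A)) A) t
set_option quotPrecheck false in
local notation "L'" => Localization.Away (algebraMap A (AdicCompletion (Ideal.span ({t} : Set A)) A) t)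

theorem fg_span : (Ideal.span ({t} : Set A)).FG := Submodule.fg_span_singleton t

theorem t_mem_jacobson : (algebraMap A Ah t) ∈ (⊥ : Ideal Ah).jacobson := by
  haveI := AdicCompletion.isAdicComplete_self (Ideal.span ({t} : Set A)) fg_span
  exact IsAdicComplete.le_jacobson_bot ((Ideal.span ({t} : Set A)).map (algebraMap A Ah))
    (Ideal.mem_map_of_mem _ (Ideal.mem_span_singleton_self t))

theorem evalA_algebraMap (n : ℕ) (a : A) :
    AdicCompletion.evalₐ (Ideal.span ({t} : Set A)) n (algebraMap A Ah a) =
      Ideal.Quotient.mk ((Ideal.span ({t} : Set A)) ^ n) a :=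
  ((AdicCompletion.evalₐ (Ideal.span ({t} : Set A)) n).commutes a).trans rfl

theorem exists_approx (x : Ah) (N : ℕ) : ∃ (a : A) (b : Ah), x = algebraMap A Ah a + t' ^ N * b := by
  obtain ⟨a, ha⟩ := Submodule.mkQ_surjective _ (AdicCompletion.eval (Ideal.span ({t} : Set A)) A N x)
  have hk : x - algebraMap A Ah a ∈ (Ideal.span ({t} : Set A) ^ N • ⊤ : Submodule A Ah) := by
    rw [AdicCompletion.pow_smul_top_eq_ker_eval fg_span, LinearMap.mem_ker, map_sub, sub_eq_zero, ← ha]
    have : (algebraMap A Ah a) = AdicCompletion.of (Ideal.span ({t} : Set A)) A a := by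
      rw [AdicCompletion.algebraMap_apply]; rfl
    rw [this, AdicCompletion.eval_of]
  rw [Ideal.span_singleton_pow, Submodule.ideal_span_singleton_smul] at hk
  obtain ⟨b, -, hb⟩ := Submodule.mem_smul_pointwise_iff_exists _ _ _ |>.1 hk
  refine ⟨a, b, ?_⟩
  rw [← map_pow, ← Algebra.smul_def, hb, add_sub_cancel]

/-- `A[1/t]` is dense in `Â[1/t]` -/
noncomputable def awayDense (ht : t ∈ (⊥ : Ideal A).jacobson) (φ : Localization.Away t →+* L')
    (hφ : φ = Localization.awayMap (algebraMap A Ah) t) : Dense φ where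
  B := (algebraMap Ah L').range
  u := (IsLocalization.Away.algebraMap_isUnit (S := L') t').unit
  u_mem := ⟨t', rfl⟩
  bdd x := by
    obtain ⟨k, a, ha⟩ := IsLocalization.Away.surj t' x
    exact ⟨k, a, by rw [Units.val_pow_eq_pow_val, IsUnit.unit_spec, ← ha, mul_comm]⟩
  dense x k := by
    obtain ⟨j, xh, hx⟩ := IsLocalization.Away.surj t' x
    obtain ⟨a, b, rfl⟩ := exists_approx xh (k + j)
    obtain ⟨v, hv⟩ : ∃ v : Localization.Away t, v * algebraMap A _ t = 1 :=
      (IsLocalization.Away.algebraMap_isUnit (S := Localization.Away t) t).exists_left_inv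
    refine ⟨algebraMap A _ a * v ^ j, b, ?_⟩
    have hφa : ∀ a : A, φ (algebraMap A _ a) = algebraMap Ah L' (algebraMap A Ah a) := fun a => by
      rw [hφ]; exact IsLocalization.map_eq _ a
    rw [zpow_neg, zpow_natCast, Units.eq_inv_mul_iff_mul_eq, Units.val_pow_eq_pow_val, IsUnit.unit_spec]
    refine ((IsLocalization.Away.algebraMap_isUnit (S := L') t').pow j).mul_left_injective ?_
    show _ * algebraMap Ah L' t' ^ j = (x - φ (algebraMap A _ a * v ^ j)) * algebraMap Ah L' t' ^ j
    have hv' : φ v * algebraMap Ah L' t' = 1 := by rw [← hφa, ← map_mul, hv, map_one]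
    rw [sub_mul, hx, map_mul, map_pow, mul_assoc (φ _), ← mul_pow, hv', one_pow, mul_one, hφa, map_add,
      add_sub_cancel_left, map_mul, map_pow]
    ring
  unitL y hy := by
    obtain ⟨n, a, hy'⟩ := IsLocalization.Away.surj t y
    obtain ⟨b, hb⟩ := hy
    have hφa : ∀ a : A, φ (algebraMap A _ a) = algebraMap Ah L' (algebraMap A Ah a) := fun a => by
      rw [hφ]; exact IsLocalization.map_eq _ a
    rw [Units.eq_inv_mul_iff_mul_eq, IsUnit.unit_spec] at hb
    have h1 : algebraMap Ah L' (algebraMap A Ah a - t' ^ n * (1 + t' * b)) = 0 := by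
      have := congrArg φ hy'
      rw [map_mul, map_pow, hφa, hφa] at this
      rw [map_sub, ← this, map_mul, map_pow, map_add, map_one, map_mul, hb]
      ring
    obtain ⟨⟨_, c, rfl⟩, hc⟩ := (IsLocalization.map_eq_zero_iff (Submonoid.powers t') L' _).1 h1
    obtain ⟨b0, d, rfl⟩ := exists_approx b (c + n + 2)
    have h2 := congrArg (AdicCompletion.evalₐ (Ideal.span ({t} : Set A)) (c + n + 2)) hc
    simp only [map_mul, map_sub, map_pow, map_add, map_one, map_zero, evalA_algebraMap] at h2
    have ht0 : (Ideal.Quotient.mk ((Ideal.span ({t} : Set A)) ^ (c + n + 2)) t) ^ (c + n + 2) = 0 := by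
      rw [← map_pow, Ideal.Quotient.eq_zero_iff_mem]
      exact Ideal.pow_mem_pow (Ideal.mem_span_singleton_self t) _
    rw [ht0, zero_mul, add_zero] at h2
    simp only [← map_one (Ideal.Quotient.mk ((Ideal.span ({t} : Set A)) ^ (c + n + 2))), ← map_mul, ← map_pow,
      ← map_add, ← map_sub, Ideal.Quotient.eq_zero_iff_mem, Ideal.span_singleton_pow,
      Ideal.mem_span_singleton'] at h2
    obtain ⟨e, he⟩ := h2
    obtain ⟨w, hw⟩ : ∃ w, t * w = t * (b0 + t * e) := ⟨_, rfl⟩
    have hu : IsUnit (1 + t * (b0 + t * e)) := by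
      have := (Ideal.mem_jacobson_bot.1 ht) (b0 + t * e)
      rwa [add_comm] at this
    have h3 : t ^ c * a = t ^ (c + n) * (1 + t * (b0 + t * e)) := by linear_combination -he
    have h4 := congrArg (algebraMap A (Localization.Away t)) h3
    rw [map_mul, map_mul, map_pow, map_pow, ← hy'] at h4
    have htu := IsLocalization.Away.algebraMap_isUnit (S := Localization.Away t) t
    have : IsUnit (algebraMap A (Localization.Away t) t ^ c * (y * algebraMap A (Localization.Away t) t ^ n)) :=
      h4 ▸ (htu.pow _).mul (hu.map _)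
    exact isUnit_of_mul_isUnit_left (isUnit_of_mul_isUnit_right this)
  unitL' x hx := by
    obtain ⟨b, hb⟩ := hx
    rw [Units.eq_inv_mul_iff_mul_eq, IsUnit.unit_spec, ← map_mul] at hb
    have : x = algebraMap Ah L' (t' * b + 1) := by rw [map_add, hb, map_one, sub_add_cancel]
    rw [this]
    exact ((Ideal.mem_jacobson_bot.1 t_mem_jacobson) b).map _

end Groth.Agent.DenseProj
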