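import Mathlib

/-!
# Finite projective modules along a dense ring map

`L → L'` is a ring map, `B ⊆ L'` a "bounded" subring with a topologically nilpotent unit `u` of `L'`
in it such that `L` is dense in `L'` for the topology given by the `u ^ k B`, and elements close to `1`
are units in `L` and in `L'`.  Then finite projective modules over `L` are determined by their base
change, stably free modules descend, and idempotents of `L'` come from `L` when quadratic equations
can be solved.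
-/

set_option autoImplicit false
universe u

open TensorProduct

namespace Groth.Agent.DenseProj

/-- two idempotent matrices have isomorphic images -/
def Sim {S : Type*} [CommRing S] {m n : Type*} [Fintype m] [Fintype n]
    (e : Matrix m m S) (e' : Matrix n n S) : Prop :=
  ∃ (F : Matrix m n S) (G : Matrix n m S),
    F * G = e ∧ G * F = e' ∧ e * F = F ∧ F * e' = F ∧ e' * G = G ∧ G * e = G

/-- the hypotheses -/
structure Dense {L L' : Type u} [CommRing L] [CommRing L'] (φ : L →+* L') where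
  B : Subring L'
  u : L'ˣ
  u_mem : (u : L') ∈ B
  bdd : ∀ x : L', ∃ k : ℕ, ((u ^ k : L'ˣ) : L') * x ∈ B
  dense : ∀ (x : L') (k : ℕ), ∃ y : L, ((u ^ (-(k : ℤ)) : L'ˣ) : L') * (x - φ y) ∈ B
  unitL : ∀ y : L, ((u⁻¹ : L'ˣ) : L') * (φ y - 1) ∈ B → IsUnit y
  unitL' : ∀ x : L', ((u⁻¹ : L'ˣ) : L') * (x - 1) ∈ B → IsUnit x

namespace Dense

variable {L L' : Type u} [CommRing L] [CommRing L'] {φ : L →+* L'} (D : Dense φ)

/-- `x ∈ u ^ k B` -/
def Nb (k : ℤ) (x : L') : Prop := ((D.u ^ (-k) : L'ˣ) : L') * x ∈ D.B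

theorem nb_zero (k : ℤ) : D.Nb k 0 := by simp [Nb, zero_mem]

theorem nb_add {k : ℤ} {x y : L'} (hx : D.Nb k x) (hy : D.Nb k y) : D.Nb k (x + y) := by
  simpa [Nb, mul_add] using add_mem hx hy

theorem nb_sub {k : ℤ} {x y : L'} (hx : D.Nb k x) (hy : D.Nb k y) : D.Nb k (x - y) := by
  simpa [Nb, mul_sub] using sub_mem hx hy

theorem nb_mul {j k : ℤ} {x y : L'} (hx : D.Nb j x) (hy : D.Nb k y) : D.Nb (j + k) (x * y) := by
  have := mul_mem hx hy
  unfold Nb
  rw [neg_add, zpow_add, Units.val_mul]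
  convert this using 1
  ring

theorem nb_mono {j k : ℤ} {x : L'} (hx : D.Nb k x) (h : j ≤ k) : D.Nb j x := by
  obtain ⟨d, hd⟩ : ∃ d : ℕ, k - j = d := ⟨(k - j).toNat, by omega⟩
  have := mul_mem (pow_mem D.u_mem d) hx
  unfold Nb
  rw [show -j = (d : ℤ) + -k by omega, zpow_add, Units.val_mul, zpow_natCast, Units.val_pow_eq_pow_val, mul_assoc]
  exact this

theorem nb_one : D.Nb 0 1 := by simp [Nb, one_mem]

theorem exists_nb (x : L') : ∃ k : ℕ, D.Nb (-(k : ℤ)) x := by
  obtain ⟨k, hk⟩ := D.bdd x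
  exact ⟨k, by simpa [Nb] using hk⟩

variable {m n l : Type} [Fintype m] [Fintype n] [Fintype l]

/-- entrywise `Nb` -/
def MNb (k : ℤ) (X : Matrix m n L') : Prop := ∀ i j, D.Nb k (X i j)

theorem mnb_mul {a b : ℤ} {X : Matrix m n L'} {Y : Matrix n l L'} (hX : D.MNb a X) (hY : D.MNb b Y)
    {c : ℤ} (h : c ≤ a + b) : D.MNb c (X * Y) := fun i j => by
  rw [Matrix.mul_apply]
  exact D.nb_mono (Finset.sum_induction _ (D.Nb (a + b)) (fun _ _ => D.nb_add) (D.nb_zero _)
    fun z _ => D.nb_mul (hX i z) (hY z j)) h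

theorem mnb_add {a b c : ℤ} {X Y : Matrix m n L'} (hX : D.MNb a X) (hY : D.MNb b Y) (ha : c ≤ a) (hb : c ≤ b) :
    D.MNb c (X + Y) := fun i j => D.nb_add (D.nb_mono (hX i j) ha) (D.nb_mono (hY i j) hb)

theorem exists_mnb (X : Matrix m n L') : ∃ a : ℕ, D.MNb (-(a : ℤ)) X := by
  choose a ha using fun p : m × n => D.exists_nb (X p.1 p.2)
  exact ⟨Finset.univ.sup a, fun i j => D.nb_mono (ha (i, j)) (by
    have := Finset.le_sup (f := a) (Finset.mem_univ (i, j))
    omega)⟩

theorem exists_approx (X : Matrix m n L') (k : ℕ) :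
    ∃ Y : Matrix m n L, D.MNb k (X - Y.map φ) := by
  choose y hy using fun (i : m) (j : n) => D.dense (X i j) k
  exact ⟨Matrix.of y, fun i j => hy i j⟩

theorem det_close [DecidableEq m] {X : Matrix m m L'} (hX : D.MNb 1 (X - 1)) :
    D.Nb 1 (X.det - 1) := by
  let τ : D.B := ⟨_, D.u_mem⟩
  let Y : Matrix m m D.B := Matrix.of fun i j => ⟨_, hX i j⟩
  have hY : X = ((1 + τ • Y : Matrix m m D.B)).map D.B.subtype := by
    ext i j
    simp only [Matrix.map_apply, Matrix.add_apply, Matrix.smul_apply, Subring.coe_subtype, smul_eq_mul,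
      Subring.coe_add, Subring.coe_mul, τ, Y, Matrix.of_apply]
    rw [← mul_assoc, zpow_neg_one, Units.mul_inv, one_mul, Matrix.sub_apply]
    rcases eq_or_ne i j with rfl | h
    · simp
    · simp [Matrix.one_apply_ne h]
  have h1 : Ideal.Quotient.mk (Ideal.span {τ}) ((1 + τ • Y : Matrix m m D.B).det - 1) = 0 := by
    rw [map_sub, RingHom.map_det, map_one, map_add, map_one, RingHom.mapMatrix_apply]
    have : (τ • Y).map (Ideal.Quotient.mk (Ideal.span {τ})) = 0 := by
      ext i j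
      simp [Ideal.Quotient.eq_zero_iff_mem.2 (Ideal.mem_span_singleton_self τ)]
    rw [this, add_zero, Matrix.det_one, sub_self]
  obtain ⟨c, hc⟩ := Ideal.mem_span_singleton'.1 (Ideal.Quotient.eq_zero_iff_mem.1 h1)
  have h2 : X.det - 1 = (D.u : L') * c := by
    have := congrArg D.B.subtype hc
    rw [map_mul, map_sub, map_one, RingHom.map_det, RingHom.mapMatrix_apply, ← hY] at this
    rw [← this]
    exact mul_comm _ _
  show ((D.u ^ (-1 : ℤ) : L'ˣ) : L') * _ ∈ D.B
  rw [h2, ← mul_assoc, zpow_neg_one, Units.inv_mul, one_mul]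
  exact c.2

theorem isUnit_of_close [DecidableEq m] {X : Matrix m m L} (hX : D.MNb 1 (X.map φ - 1)) : IsUnit X := by
  rw [Matrix.isUnit_iff_isUnit_det]
  refine D.unitL _ ?_
  have := D.det_close hX
  rw [Nb, zpow_neg_one] at this
  convert this using 3
  rw [RingHom.map_det, RingHom.mapMatrix_apply]

theorem isUnit_of_close' [DecidableEq m] {X : Matrix m m L'} (hX : D.MNb 1 (X - 1)) : IsUnit X := by
  rw [Matrix.isUnit_iff_isUnit_det]
  refine D.unitL' _ ?_
  have := D.det_close hX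
  rwa [Nb, zpow_neg_one] at this

variable [DecidableEq m] [DecidableEq n]

include D in
theorem sim_descend {em : Matrix m m L} {en : Matrix n n L} (hm : em * em = em) (hn : en * en = en)
    (h : Sim (em.map φ) (en.map φ)) : Sim em en := by
  obtain ⟨F, G, hFG, hGF, heF, hFe, heG, hGe⟩ := h
  obtain ⟨a1, h1⟩ := D.exists_mnb F
  obtain ⟨a2, h2⟩ := D.exists_mnb G
  obtain ⟨a3, h3⟩ := D.exists_mnb (em.map φ)
  obtain ⟨a4, h4⟩ := D.exists_mnb (en.map φ)
  obtain ⟨a, ha⟩ : ∃ a, a = a1 + a2 + a3 + a4 := ⟨_, rfl⟩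
  have bF : D.MNb (-(a : ℤ)) F := fun i j => D.nb_mono (h1 i j) (by omega)
  have bG : D.MNb (-(a : ℤ)) G := fun i j => D.nb_mono (h2 i j) (by omega)
  have bm : D.MNb (-(a : ℤ)) (em.map φ) := fun i j => D.nb_mono (h3 i j) (by omega)
  have bn : D.MNb (-(a : ℤ)) (en.map φ) := fun i j => D.nb_mono (h4 i j) (by omega)
  obtain ⟨F0, hF0⟩ := D.exists_approx F (3 * a + 1)
  obtain ⟨G0, hG0⟩ := D.exists_approx G (3 * a + 1)
  obtain ⟨F', hF'⟩ : ∃ F', F' = em * F0 * en := ⟨_, rfl⟩
  obtain ⟨G', hG'⟩ : ∃ G', G' = en * G0 * em := ⟨_, rfl⟩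
  have dF : D.MNb ((a : ℤ) + 1) (F - F'.map φ) := by
    have : F - F'.map φ = em.map φ * (F - F0.map φ) * en.map φ := by
      simp only [hF', Matrix.map_mul, Matrix.mul_sub, Matrix.sub_mul, heF, hFe]
    rw [this]
    exact D.mnb_mul (D.mnb_mul bm hF0 le_rfl) bn (by omega)
  have dG : D.MNb ((a : ℤ) + 1) (G - G'.map φ) := by
    have : G - G'.map φ = en.map φ * (G - G0.map φ) * em.map φ := by
      simp only [hG', Matrix.map_mul, Matrix.mul_sub, Matrix.sub_mul, heG, hGe]
    rw [this]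
    exact D.mnb_mul (D.mnb_mul bn hG0 le_rfl) bm (by omega)
  have bF' : D.MNb (-(a : ℤ)) (F'.map φ) := fun i j => by
    have := D.nb_sub (bF i j) (D.nb_mono (dF i j) (by omega : (-(a : ℤ)) ≤ (a : ℤ) + 1))
    rwa [Matrix.sub_apply, sub_sub_cancel] at this
  have bG' : D.MNb (-(a : ℤ)) (G'.map φ) := fun i j => by
    have := D.nb_sub (bG i j) (D.nb_mono (dG i j) (by omega : (-(a : ℤ)) ≤ (a : ℤ) + 1))
    rwa [Matrix.sub_apply, sub_sub_cancel] at this
  have eF : em * F' = F' := by simp only [hF', ← Matrix.mul_assoc, hm]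
  have Fe : F' * en = F' := by simp only [hF', Matrix.mul_assoc, hn]
  have eG : en * G' = G' := by simp only [hG', ← Matrix.mul_assoc, hn]
  have Ge : G' * em = G' := by simp only [hG', Matrix.mul_assoc, hm]
  have cl : ∀ i j, D.Nb 1 ((F * G - F'.map φ * G'.map φ) i j) := fun i j => by
    have e : F * G - F'.map φ * G'.map φ = (F - F'.map φ) * G + F'.map φ * (G - G'.map φ) := by
      simp only [Matrix.mul_sub, Matrix.sub_mul]; abel
    rw [e]
    exact D.mnb_add (D.mnb_mul dF bG le_rfl) (D.mnb_mul bF' dG le_rfl) (by omega) (by omega) i j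
  have cl' : ∀ i j, D.Nb 1 ((G * F - G'.map φ * F'.map φ) i j) := fun i j => by
    have e : G * F - G'.map φ * F'.map φ = (G - G'.map φ) * F + G'.map φ * (F - F'.map φ) := by
      simp only [Matrix.mul_sub, Matrix.sub_mul]; abel
    rw [e]
    exact D.mnb_add (D.mnb_mul dG bF le_rfl) (D.mnb_mul bG' dF le_rfl) (by omega) (by omega) i j
  obtain ⟨W, hW⟩ := D.isUnit_of_close (X := G' * F' + (1 - en)) (fun i j => by
    have := D.nb_sub (D.nb_zero 1) (cl' i j)
    convert this using 1
    rw [hGF, Matrix.map_add _ (map_add φ), Matrix.map_mul, Matrix.map_sub _ (map_sub φ), Matrix.map_one _ (map_zero φ) (map_one φ)]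
    simp only [Matrix.sub_apply, Matrix.add_apply]
    ring)
  obtain ⟨V, hV⟩ := D.isUnit_of_close (X := F' * G' + (1 - em)) (fun i j => by
    have := D.nb_sub (D.nb_zero 1) (cl i j)
    convert this using 1
    rw [hFG, Matrix.map_add _ (map_add φ), Matrix.map_mul, Matrix.map_sub _ (map_sub φ), Matrix.map_one _ (map_zero φ) (map_one φ)]
    simp only [Matrix.sub_apply, Matrix.add_apply]
    ring)
  have w1 : (↑W⁻¹ : Matrix n n L) * (G' * F') = en := by
    have hz : G' * F' * (1 - en) = 0 := by rw [Matrix.mul_sub, Matrix.mul_one, Matrix.mul_assoc, Fe, sub_self]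
    have hq : (1 - en) * (1 - en) = 1 - en := by
      simp only [Matrix.mul_sub, Matrix.sub_mul, Matrix.mul_one, Matrix.one_mul, hn, sub_self, sub_zero]
    have hw : (↑W⁻¹ : Matrix n n L) * (1 - en) = 1 - en := by
      have : (W : Matrix n n L) * (1 - en) = 1 - en := by rw [hW, Matrix.add_mul, hz, zero_add, hq]
      conv_lhs => rw [← this, ← Matrix.mul_assoc, Units.inv_mul, Matrix.one_mul]
    have := Units.inv_mul W
    conv_lhs at this => arg 2; rw [hW]
    rw [Matrix.mul_add, hw] at this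
    rw [eq_sub_of_add_eq this, sub_sub_cancel]
  have v1 : F' * G' * (↑V⁻¹ : Matrix m m L) = em := by
    have hz : (1 - em) * (F' * G') = 0 := by rw [Matrix.sub_mul, Matrix.one_mul, ← Matrix.mul_assoc, eF, sub_self]
    have hq : (1 - em) * (1 - em) = 1 - em := by
      simp only [Matrix.mul_sub, Matrix.sub_mul, Matrix.mul_one, Matrix.one_mul, hm, sub_self, sub_zero]
    have hv : (1 - em) * (↑V⁻¹ : Matrix m m L) = 1 - em := by
      have : (1 - em) * (V : Matrix m m L) = 1 - em := by rw [hV, Matrix.mul_add, hz, zero_add, hq]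
      conv_lhs => rw [← this, Matrix.mul_assoc, Units.mul_inv, Matrix.mul_one]
    have := Units.mul_inv V
    conv_lhs at this => arg 1; rw [hV]
    rw [Matrix.add_mul, hv] at this
    rw [eq_sub_of_add_eq this, sub_sub_cancel]
  obtain ⟨Gl, hGl⟩ : ∃ Gl, Gl = en * ((↑W⁻¹ : Matrix n n L) * G') := ⟨_, rfl⟩
  have g1 : Gl * F' = en := by simp only [hGl, Matrix.mul_assoc, w1, hn]
  have g2 : Gl * em = Gl := by simp only [hGl, Matrix.mul_assoc, Ge]
  have g3 : Gl = en * (G' * (↑V⁻¹ : Matrix m m L)) := by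
    conv_lhs => rw [← g2, ← v1, Matrix.mul_assoc F', ← Matrix.mul_assoc Gl, g1]
  refine ⟨F', Gl, ?_, g1, eF, Fe, by simp only [hGl, ← Matrix.mul_assoc, hn], g2⟩
  rw [g3, ← Matrix.mul_assoc, Fe, ← Matrix.mul_assoc, v1]

include D in
theorem exists_idem (P : Matrix m n L') (Q : Matrix n m L') (hQP : Q * P = 1) :
    ∃ (P1 : Matrix m n L) (Q0 : Matrix n m L), Q0 * P1 = 1 ∧
      Sim ((1 - P1 * Q0).map φ) (1 - P * Q) := by
  obtain ⟨a, hP⟩ := D.exists_mnb P
  obtain ⟨Q0, hQ0⟩ := D.exists_approx Q (a + 1)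
  obtain ⟨b, hQ0b⟩ := D.exists_mnb (Q0.map φ)
  obtain ⟨P0, hP0⟩ := D.exists_approx P (b + 1)
  have c1 : D.MNb 1 (Q0.map φ * P - 1) := fun i j => by
    have := D.nb_sub (D.nb_zero 1) (D.mnb_mul hQ0 hP (c := 1) (by omega) i j)
    convert this using 1
    rw [Matrix.sub_mul, hQP]
    simp [Matrix.sub_apply]
  obtain ⟨T, hT⟩ := D.isUnit_of_close' c1
  obtain ⟨W, hW⟩ := D.isUnit_of_close (X := Q0 * P0) (fun i j => by
    have := D.nb_sub (c1 i j) (D.mnb_mul hQ0b hP0 (c := 1) (by omega) i j)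
    convert this using 1
    rw [Matrix.map_mul, Matrix.mul_sub]
    simp only [Matrix.sub_apply]
    ring)
  let P1 := P0 * (↑W⁻¹ : Matrix n n L)
  have h1 : Q0 * P1 = 1 := by rw [← Matrix.mul_assoc, ← hW, Units.mul_inv]
  refine ⟨P1, Q0, h1, ?_⟩
  set A := P1.map φ
  set C := Q0.map φ
  have hCA : C * A = 1 := by
    rw [← Matrix.map_mul, h1, Matrix.map_one _ (map_zero φ) (map_one φ)]
  rw [Matrix.map_sub _ (map_sub φ), Matrix.map_one _ (map_zero φ) (map_one φ), Matrix.map_mul]
  let P2 := P * (↑T⁻¹ : Matrix n n L')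
  have hC2 : C * P2 = 1 := by rw [← Matrix.mul_assoc, ← hT, Units.mul_inv]
  let e := 1 - A * C
  let f := 1 - P2 * C
  let g := 1 - P * Q
  have ef : e * f = f := by
    simp only [e, f, Matrix.sub_mul, Matrix.mul_sub, Matrix.mul_one, Matrix.one_mul, Matrix.mul_assoc]
    rw [← Matrix.mul_assoc C P2, hC2, Matrix.one_mul]; abel
  have fe : f * e = e := by
    simp only [e, f, Matrix.sub_mul, Matrix.mul_sub, Matrix.mul_one, Matrix.one_mul, Matrix.mul_assoc]
    rw [← Matrix.mul_assoc C A, hCA, Matrix.one_mul]; abel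
  have ee : e * e = e := by
    simp only [e, Matrix.sub_mul, Matrix.mul_sub, Matrix.mul_one, Matrix.one_mul, Matrix.mul_assoc]
    rw [← Matrix.mul_assoc C A, hCA, Matrix.one_mul]; abel
  have gg : g * g = g := by
    simp only [g, Matrix.sub_mul, Matrix.mul_sub, Matrix.mul_one, Matrix.one_mul, Matrix.mul_assoc]
    rw [← Matrix.mul_assoc Q P, hQP, Matrix.one_mul]; abel
  have gf : g * f = g := by
    simp only [g, f, P2, Matrix.sub_mul, Matrix.mul_sub, Matrix.mul_one, Matrix.one_mul, Matrix.mul_assoc]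
    rw [← Matrix.mul_assoc Q P, hQP, Matrix.one_mul]; abel
  have fg : f * g = f := by
    simp only [g, f, P2, Matrix.sub_mul, Matrix.mul_sub, Matrix.mul_one, Matrix.one_mul, Matrix.mul_assoc]
    have hCP : C * P = (T : Matrix n n L') := hT.symm
    rw [← Matrix.mul_assoc C P, hCP, ← Matrix.mul_assoc (↑T⁻¹ : Matrix n n L'), Units.inv_mul, Matrix.one_mul]; abel
  show Sim e g
  refine ⟨f, g * e, ?_, ?_, ef, fg, ?_, ?_⟩
  · rw [← Matrix.mul_assoc, fg, fe]
  · rw [Matrix.mul_assoc, ef, gf]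
  · rw [← Matrix.mul_assoc, gg]
  · rw [Matrix.mul_assoc, ee]

end Dense

variable {R : Type u} [CommRing R] {M : Type u} [AddCommGroup M] [Module R M]

/-- a presentation of a projective module as image of an idempotent matrix -/
structure Pres (M : Type u) [AddCommGroup M] [Module R M] where
  k : ℕ
  π : (Fin k → R) →ₗ[R] M
  s : M →ₗ[R] (Fin k → R)
  hs : ∀ z, π (s z) = z

theorem exists_pres [Module.Finite R M] [Module.Projective R M] : Nonempty (Pres (R := R) M) := by
  obtain ⟨k, π, hπ⟩ := Module.Finite.exists_fin' R M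
  obtain ⟨s, hs⟩ := Module.projective_lifting_property π LinearMap.id hπ
  exact ⟨⟨k, π, s, LinearMap.congr_fun hs⟩⟩

/-- the idempotent matrix -/
noncomputable def Pres.e (p : Pres (R := R) M) : Matrix (Fin p.k) (Fin p.k) R :=
  LinearMap.toMatrix' (p.s.comp p.π)

theorem Pres.e_sq (p : Pres (R := R) M) : p.e * p.e = p.e := by
  rw [Pres.e, ← LinearMap.toMatrix'_comp]
  refine congrArg _ (LinearMap.ext fun v => ?_)
  simp [p.hs]

theorem linearEquiv_of_sim {N : Type u} [AddCommGroup N] [Module R N] (p : Pres (R := R) M) (q : Pres (R := R) N)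
    (h : Sim p.e q.e) : Nonempty (M ≃ₗ[R] N) := by
  obtain ⟨F, G, h1, h2, -⟩ := h
  have hp : ∀ v, p.e.mulVec v = p.s (p.π v) := fun v => by rw [Pres.e, LinearMap.toMatrix'_mulVec]; rfl
  have hq : ∀ v, q.e.mulVec v = q.s (q.π v) := fun v => by rw [Pres.e, LinearMap.toMatrix'_mulVec]; rfl
  refine ⟨LinearEquiv.ofLinearMap (q.π.comp (G.mulVecLin.comp p.s)) (p.π.comp (F.mulVecLin.comp q.s))
    (LinearMap.ext fun z => ?_) (LinearMap.ext fun z => ?_)⟩
  · simp only [LinearMap.comp_apply, Matrix.mulVecLin_apply, LinearMap.id_apply]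
    rw [← hp, ← h1, Matrix.mulVec_mulVec, Matrix.mulVec_mulVec, ← Matrix.mul_assoc,
      h2, Matrix.mul_assoc, h2, q.e_sq, hq, q.hs, q.hs]
  · simp only [LinearMap.comp_apply, Matrix.mulVecLin_apply, LinearMap.id_apply]
    rw [← hq, ← h2, Matrix.mulVec_mulVec, Matrix.mulVec_mulVec, ← Matrix.mul_assoc,
      h1, Matrix.mul_assoc, h1, p.e_sq, hp, p.hs, p.hs]

theorem sim_of_linearEquiv {N : Type u} [AddCommGroup N] [Module R N] (p : Pres (R := R) M) (q : Pres (R := R) N)
    (e : M ≃ₗ[R] N) : Sim p.e q.e := by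
  have key : ∀ {a b c : ℕ} (f : (Fin b → R) →ₗ[R] (Fin c → R)) (g : (Fin a → R) →ₗ[R] (Fin b → R)),
      LinearMap.toMatrix' f * LinearMap.toMatrix' g = LinearMap.toMatrix' (f.comp g) :=
    fun f g => (LinearMap.toMatrix'_comp f g).symm
  refine ⟨LinearMap.toMatrix' (p.s.comp (e.symm.toLinearMap.comp q.π)),
    LinearMap.toMatrix' (q.s.comp (e.toLinearMap.comp p.π)), ?_, ?_, ?_, ?_, ?_, ?_⟩ <;>
  · simp only [Pres.e, key]
    refine congrArg _ (LinearMap.ext fun v => ?_)
    simp [p.hs, q.hs]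

variable {L L' : Type u} [CommRing L] [CommRing L'] [Algebra L L']

/-- base change of a presentation -/
noncomputable def Pres.baseChange {M : Type u} [AddCommGroup M] [Module L M] (p : Pres (R := L) M) :
    Pres (R := L') (L' ⊗[L] M) where
  k := p.k
  π := (LinearMap.baseChange L' p.π).comp (TensorProduct.piScalarRight L L' L' (Fin p.k)).symm.toLinearMap
  s := (TensorProduct.piScalarRight L L' L' (Fin p.k)).toLinearMap.comp (LinearMap.baseChange L' p.s)
  hs z := by
    simp only [LinearMap.comp_apply, LinearEquiv.coe_coe, LinearEquiv.symm_apply_apply]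
    rw [← LinearMap.comp_apply, ← LinearMap.baseChange_comp,
      show p.π.comp p.s = LinearMap.id from LinearMap.ext p.hs, LinearMap.baseChange_id, LinearMap.id_apply]

theorem Pres.baseChange_e {M : Type u} [AddCommGroup M] [Module L M] (p : Pres (R := L) M) :
    (p.baseChange (L' := L')).e = p.e.map (algebraMap L L') := by
  ext i j
  revert i j
  show ∀ i j : Fin p.k, p.baseChange.e i j = algebraMap L L' (p.e i j)
  intro i j
  have key : ∀ f : (Fin p.k → L') →ₗ[L'] (Fin p.k → L'), LinearMap.toMatrix' f i j = f (Pi.single j 1) i :=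
    fun f => LinearMap.toMatrix'_apply f i j
  have key' : ∀ f : (Fin p.k → L) →ₗ[L] (Fin p.k → L), LinearMap.toMatrix' f i j = f (Pi.single j 1) i :=
    fun f => LinearMap.toMatrix'_apply f i j
  refine (key ((p.baseChange (L' := L')).s.comp (p.baseChange (L' := L')).π)).trans ?_
  rw [Pres.e, key']
  simp [Pres.baseChange, Algebra.algebraMap_eq_smul_one]

theorem Dense.linearEquiv_descend (D : Dense (algebraMap L L')) (M N : Type u)
    [AddCommGroup M] [Module L M] [Module.Finite L M] [Module.Projective L M]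
    [AddCommGroup N] [Module L N] [Module.Finite L N] [Module.Projective L N]
    (e : L' ⊗[L] M ≃ₗ[L'] L' ⊗[L] N) : Nonempty (M ≃ₗ[L] N) := by
  obtain ⟨p⟩ := exists_pres (R := L) (M := M)
  obtain ⟨q⟩ := exists_pres (R := L) (M := N)
  have h := sim_of_linearEquiv (p.baseChange (L' := L')) (q.baseChange (L' := L')) e
  rw [Pres.baseChange_e, Pres.baseChange_e] at h
  exact linearEquiv_of_sim p q (D.sim_descend p.e_sq q.e_sq h)

theorem Dense.stablyFree_descend (D : Dense (algebraMap L L')) (M' : Type u) [AddCommGroup M'] [Module L' M']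
    (h : ∃ n m : ℕ, Nonempty ((M' × (Fin n → L')) ≃ₗ[L'] (Fin m → L'))) :
    ∃ (M : Type u) (_ : AddCommGroup M) (_ : Module L M), Module.Finite L M ∧
      (∃ n m : ℕ, Nonempty ((M × (Fin n → L)) ≃ₗ[L] (Fin m → L))) ∧
      Nonempty (L' ⊗[L] M ≃ₗ[L'] M') := by
  obtain ⟨n, m, ⟨θ⟩⟩ := h
  let P := LinearMap.toMatrix' (θ.toLinearMap.comp (LinearMap.inr L' M' (Fin n → L')))
  let Q := LinearMap.toMatrix' ((LinearMap.snd L' M' (Fin n → L')).comp θ.symm.toLinearMap)
  have hQP : Q * P = 1 := by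
    rw [← LinearMap.toMatrix'_comp, ← LinearMap.toMatrix'_id]
    refine congrArg _ (LinearMap.ext fun v => ?_)
    simp
  obtain ⟨P1, Q0, h1, hsim⟩ := D.exists_idem P Q hQP
  let e0 := 1 - P1 * Q0
  have hz : Q0 * e0 = 0 := by
    simp only [e0, Matrix.mul_sub, Matrix.mul_one, ← Matrix.mul_assoc, h1, Matrix.one_mul, sub_self]
  have he0 : e0 * e0 = e0 := by
    conv_lhs => arg 1; simp only [e0]
    rw [Matrix.sub_mul, Matrix.one_mul, Matrix.mul_assoc, hz, Matrix.mul_zero, sub_zero]
  let M := LinearMap.range (Matrix.mulVecLin e0)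
  let p : Pres (R := L) M :=
    { k := m
      π := (Matrix.mulVecLin e0).rangeRestrict
      s := M.subtype
      hs := fun z => by
        obtain ⟨z, v, rfl⟩ := z
        apply Subtype.ext
        simp [Matrix.mulVec_mulVec, he0] }
  have hfix : ∀ z : M, e0.mulVec (z : Fin m → L) = z := fun z => congrArg Subtype.val (p.hs z)
  haveI hfin : Module.Finite L M := Module.Finite.of_surjective p.π fun z => ⟨_, p.hs z⟩
  refine ⟨M, inferInstance, inferInstance, hfin, ⟨n, m, ⟨?_⟩⟩, ?_⟩
  · refine LinearEquiv.ofLinearMap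
      (M.subtype.comp (LinearMap.fst L M (Fin n → L)) + P1.mulVecLin.comp (LinearMap.snd L M (Fin n → L)))
      (p.π.prod Q0.mulVecLin) (LinearMap.ext fun v => ?_) (LinearMap.ext fun zv => ?_)
    · simp [p, Matrix.mulVec_mulVec, e0, Matrix.sub_mulVec]
    · obtain ⟨z, v⟩ := zv
      have hzero : Q0.mulVec (z : Fin m → L) = 0 := by rw [← hfix z, Matrix.mulVec_mulVec, hz, Matrix.zero_mulVec]
      have hP1 : e0 * P1 = 0 := by
        simp only [e0, Matrix.sub_mul, Matrix.one_mul, Matrix.mul_assoc, h1, Matrix.mul_one, sub_self]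
      refine Prod.ext (Subtype.ext ?_) ?_
      · simp [p, Matrix.mulVec_add, Matrix.mulVec_mulVec, hfix, hP1]
      · simp [Matrix.mulVec_add, Matrix.mulVec_mulVec, hzero, h1]
  · let q : Pres (R := L') M' :=
      { k := m
        π := (LinearMap.fst L' M' (Fin n → L')).comp θ.symm.toLinearMap
        s := θ.toLinearMap.comp (LinearMap.inl L' M' (Fin n → L'))
        hs := fun z => by simp }
    refine linearEquiv_of_sim (p.baseChange (L' := L')) q ?_
    have hq : q.e = 1 - P * Q := by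
      rw [eq_sub_iff_add_eq, ← LinearMap.toMatrix'_comp, Pres.e, ← map_add, ← LinearMap.toMatrix'_id]
      refine congrArg _ (LinearMap.ext fun v => ?_)
      simp only [q, LinearMap.add_apply, LinearMap.comp_apply, LinearEquiv.coe_coe, LinearMap.fst_apply,
        LinearMap.snd_apply, LinearMap.inl_apply, LinearMap.inr_apply, LinearMap.id_apply, ← map_add,
        Prod.mk_add_mk, add_zero, zero_add, Prod.mk.eta, LinearEquiv.apply_symm_apply]
    have hp : p.e = e0 := by
      rw [Pres.e, show p.s.comp p.π = Matrix.mulVecLin e0 from LinearMap.ext fun v => rfl]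
      exact LinearMap.toMatrix'_toLin' e0
    rw [Pres.baseChange_e, hp, hq]
    exact hsim

end Groth.Agent.DenseProj
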