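import Groth.Agent.Lib.DenseProj.Instances
import Groth.Agent.Lib.HfpH6.FiniteNbhd
import Groth.Agent.Lib.Hens.PairOps
import Mathlib

/-! Weierstrass preparation in the henselization of `R[X]` along `X`, `R` henselian local. -/

set_option autoImplicit false
universe u

open Polynomial IsLocalRing

namespace Groth.Agent.DenseProj

variable {R : Type u} [CommRing R] {B : Type u} [CommRing B] [Algebra R[X] B]
  (hB : Hens2.IsPairHenselization R[X] (Ideal.span {(X : R[X])}) B)

local notation "xB" => algebraMap R[X] B Polynomial.X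

/-- `R → B` -/
noncomputable abbrev cB (R : Type u) [CommRing R] (B : Type u) [CommRing B] [Algebra R[X] B] : R →+* B :=
  (algebraMap R[X] B).comp Polynomial.C

include hB in
theorem isUnit_iff_coeff_zero (ψ : B →+* PowerSeries R)
    (hψ : ∀ p : R[X], ψ (algebraMap R[X] B p) = (p : PowerSeries R)) (x : B) :
    IsUnit x ↔ IsUnit (PowerSeries.constantCoeff (ψ x)) := by
  refine ⟨fun h => (h.map ψ).map _, fun h => ?_⟩
  obtain ⟨p, b, rfl⟩ := exists_sub_pow_mul hB x 1
  obtain ⟨q, hq⟩ : (X : R[X]) ∣ p - Polynomial.C (p.coeff 0) := X_dvd_iff.2 (by simp)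
  have hc : IsUnit (p.coeff 0) := by
    rw [map_add, map_mul, map_pow, hψ, hψ, Polynomial.coe_X, map_add, map_mul, map_pow,
      PowerSeries.constantCoeff_X, pow_one, zero_mul, add_zero, ← PowerSeries.coeff_zero_eq_constantCoeff,
      Polynomial.coeff_coe] at h
    exact h
  obtain ⟨i, hi⟩ := hc.exists_left_inv
  have he : algebraMap R[X] B p + xB ^ 1 * b =
      cB R B (p.coeff 0) * ((algebraMap R[X] B q + b) * cB R B i * xB + 1) := by
    have h1 : cB R B i * cB R B (p.coeff 0) = 1 := by rw [← map_mul, hi, map_one]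
    have h2 : algebraMap R[X] B p = xB * algebraMap R[X] B q + cB R B (p.coeff 0) := by
      rw [RingHom.comp_apply, ← map_mul, ← map_add, ← hq, sub_add_cancel]
    rw [h2]
    linear_combination (-(algebraMap R[X] B q + b) * xB) * h1
  rw [he]
  refine ((hc.map _)).mul ?_
  have := Ideal.mem_jacobson_bot.1 ((pairX_henselian hB).jac (Ideal.mem_span_singleton_self _))
    ((algebraMap R[X] B q + b) * cB R B i)
  rwa [mul_comm] at this

theorem coeff_mem_of_mem_map (ψ : B →+* PowerSeries R)
    (hψ : ∀ p : R[X], ψ (algebraMap R[X] B p) = (p : PowerSeries R)) (I : Ideal R) {x : B}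
    (hx : x ∈ I.map (cB R B)) (m : ℕ) : PowerSeries.coeff m (ψ x) ∈ I := by
  rw [Ideal.map] at hx
  induction hx using Submodule.span_induction generalizing m with
  | mem y hy =>
    obtain ⟨a, ha, rfl⟩ := hy
    rw [RingHom.comp_apply, hψ, Polynomial.coeff_coe, coeff_C]
    split_ifs
    · exact ha
    · exact zero_mem _
  | zero => simp
  | add y z _ _ hy hz => rw [map_add, map_add]; exact add_mem (hy m) (hz m)
  | smul c y _ hy =>
    rw [smul_eq_mul, map_mul, PowerSeries.coeff_mul]
    exact sum_mem fun ij _ => Ideal.mul_mem_left _ _ (hy ij.2)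

theorem map_C_le (I : Ideal R) :
    (I.map (Polynomial.C : R →+* R[X])).map (algebraMap R[X] B) = I.map (cB R B) := Ideal.map_map _ _


/-- Krull intersection, localised -/
theorem exists_mul_eq_zero_of_forall_mem {S : Type u} [CommRing S] [IsNoetherianRing S] (M : Submonoid S) (x : S)
    (hM : ∀ a, ∀ t ∈ M, x * a + t ∈ M) (s : S) (h : ∀ N : ℕ, s ∈ Ideal.span {x ^ N}) :
    ∃ t ∈ M, t * s = 0 := by
  have hjac : Ideal.span {algebraMap S (Localization M) x} ≤ (⊥ : Ideal (Localization M)).jacobson := by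
    rw [Ideal.span_singleton_le_iff_mem, Ideal.mem_jacobson_bot]
    intro y
    obtain ⟨a, t, rfl⟩ := IsLocalization.exists_mk'_eq M y
    have h1 : (algebraMap S (Localization M) x * IsLocalization.mk' _ a t + 1) * algebraMap S _ (t : S) =
        algebraMap S _ (x * a + t) := by
      rw [add_mul, mul_assoc, IsLocalization.mk'_spec, one_mul, map_add, map_mul]
    exact isUnit_of_mul_isUnit_left
      (h1 ▸ IsLocalization.map_units (Localization M) (⟨_, hM a t t.2⟩ : M))
  have hall : algebraMap S (Localization M) s = 0 := by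
    have hk := Ideal.iInf_pow_smul_eq_bot_of_le_jacobson (M := Localization M) _ hjac
    rw [← Submodule.mem_bot (Localization M), ← hk, Submodule.mem_iInf]
    intro N
    rw [Ideal.span_singleton_pow, smul_eq_mul, Ideal.mul_top, ← map_pow, ← Set.image_singleton, ← Ideal.map_span]
    exact Ideal.mem_map_of_mem _ (h N)
  obtain ⟨⟨t, ht⟩, hts⟩ := (IsLocalization.map_eq_zero_iff M (Localization M) _).1 hall
  exact ⟨t, ht, hts⟩

section nbhd

open Groth.Agent.Hens

variable (i : PNbhd (Ideal.span {(X : R[X])})) (θ : i.S →ₐ[R[X]] B)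

theorem exists_sub_pow_mul_S (N : ℕ) : ∀ x : i.S, ∃ (p : R[X]) (y : i.S),
    x = algebraMap R[X] i.S p + algebraMap R[X] i.S X ^ N * y := by
  induction N with
  | zero => exact fun x => ⟨0, x, by simp⟩
  | succ N ih =>
    intro x
    obtain ⟨p, y, rfl⟩ := ih x
    obtain ⟨r, hr⟩ := exists_sub_mem_of_ker_eq i.σ i.ker_σ y
    rw [Ideal.map_span, Set.image_singleton, Ideal.mem_span_singleton] at hr
    obtain ⟨z, hz⟩ := hr
    refine ⟨p + X ^ N * r, z, ?_⟩
    rw [map_add, map_mul, map_pow, eq_add_of_sub_eq hz]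
    ring

include hB in
theorem isUnit_theta (ψ : B →+* PowerSeries R) (hψ : ∀ p : R[X], ψ (algebraMap R[X] B p) = (p : PowerSeries R))
    (t : i.M) : IsUnit (θ (t : i.S)) := by
  obtain ⟨r, y, hy⟩ := exists_sub_pow_mul_S i 1 (t : i.S)
  have ht : IsUnit (i.σ (t : i.S)) := t.2
  rw [hy, map_add, map_mul, map_pow, AlgHom.commutes, AlgHom.commutes, Ideal.Quotient.algebraMap_eq,
    Ideal.Quotient.eq_zero_iff_mem.2 (Ideal.mem_span_singleton_self (X : R[X])), pow_one, zero_mul, add_zero] at ht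
  rw [isUnit_iff_coeff_zero hB ψ hψ, hy, map_add, map_mul, map_pow, AlgHom.commutes, AlgHom.commutes, map_add,
    map_mul, map_pow, hψ, hψ, Polynomial.coe_X, map_add, map_mul, map_pow, PowerSeries.constantCoeff_X,
    pow_one, zero_mul, add_zero, ← PowerSeries.coeff_zero_eq_constantCoeff, Polynomial.coeff_coe]
  obtain ⟨v, hv⟩ := ht.exists_right_inv
  obtain ⟨v, rfl⟩ := Ideal.Quotient.mk_surjective v
  rw [← map_mul, ← map_one (Ideal.Quotient.mk (Ideal.span {(X : R[X])})), Ideal.Quotient.eq,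
    Ideal.mem_span_singleton, X_dvd_iff, coeff_sub, mul_coeff_zero, coeff_one_zero, sub_eq_zero] at hv
  exact IsUnit.of_mul_eq_one _ hv

/-- a neighbourhood element with all coefficients in `m` lies in `m` locally -/
theorem exists_mul_mem [IsLocalRing R] (ψ : B →+* PowerSeries R)
    (hψ : ∀ p : R[X], ψ (algebraMap R[X] B p) = (p : PowerSeries R))
    (s : i.S) (h : ∀ m, PowerSeries.coeff m (ψ (θ s)) ∈ maximalIdeal R) :
    ∃ t : i.M, (t : i.S) * s ∈ ((maximalIdeal R).map (Polynomial.C : R →+* R[X])).map (algebraMap R[X] i.S) := by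
  set mX := (maximalIdeal R).map (Polynomial.C : R →+* R[X]) with hmX
  set mS := mX.map (algebraMap R[X] i.S) with hmS
  haveI : IsNoetherianRing (R[X] ⧸ mX) := by
    letI := Ideal.Quotient.field (maximalIdeal R)
    exact isNoetherianRing_of_ringEquiv _ (Ideal.polynomialQuotientEquivQuotientPolynomial (maximalIdeal R))
  haveI : IsNoetherianRing (i.S ⧸ mS) := by
    haveI : Algebra.FiniteType R[X] i.S := inferInstance
    haveI : Algebra.FiniteType (R[X] ⧸ mX) (i.S ⧸ mS) :=
      Algebra.FiniteType.of_restrictScalars_finiteType R[X] (R[X] ⧸ mX) (i.S ⧸ mS)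
    exact Algebra.FiniteType.isNoetherianRing (R[X] ⧸ mX) (i.S ⧸ mS)
  let π := Ideal.Quotient.mk mS
  obtain ⟨_, ⟨t, ht, rfl⟩, hts⟩ := exists_mul_eq_zero_of_forall_mem
    { carrier := π '' (i.M : Set i.S)
      one_mem' := ⟨1, one_mem _, map_one π⟩
      mul_mem' := by rintro _ _ ⟨a, ha, rfl⟩ ⟨b, hb, rfl⟩; exact ⟨a * b, mul_mem ha hb, map_mul π a b⟩ }
    (π (algebraMap R[X] i.S X)) (by
      rintro a _ ⟨t, ht, rfl⟩
      obtain ⟨a, rfl⟩ := Ideal.Quotient.mk_surjective a
      refine ⟨algebraMap R[X] i.S X * a + t, ?_, by simp [π]⟩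
      show IsUnit (i.σ _)
      rw [map_add, map_mul, AlgHom.commutes, Ideal.Quotient.algebraMap_eq,
        Ideal.Quotient.eq_zero_iff_mem.2 (Ideal.mem_span_singleton_self (X : R[X])), zero_mul, zero_add]
      exact ht) (π s) (fun N => by
    obtain ⟨p, y, rfl⟩ := exists_sub_pow_mul_S i N s
    obtain ⟨q, hq⟩ : (X : R[X]) ^ N ∣ p - ∑ j ∈ Finset.range N, Polynomial.C (p.coeff j) * X ^ j := by
      rw [X_pow_dvd_iff]
      intro m hm
      simp [hm]
    have hlow : (∑ j ∈ Finset.range N, Polynomial.C (p.coeff j) * X ^ j) ∈ mX := by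
      refine sum_mem fun j hj => Ideal.mul_mem_right _ _ (Ideal.mem_map_of_mem _ ?_)
      have := h j
      rw [map_add, map_mul, map_pow, AlgHom.commutes, AlgHom.commutes, map_add, map_mul, map_pow, hψ, hψ,
        Polynomial.coe_X, map_add, PowerSeries.coeff_X_pow_mul', if_neg (by simp at hj; omega), add_zero,
        Polynomial.coeff_coe] at this
      exact this
    rw [eq_add_of_sub_eq hq, map_add (algebraMap R[X] i.S), map_mul, map_pow, map_add π, map_add π,
      Ideal.Quotient.eq_zero_iff_mem.2 (Ideal.mem_map_of_mem (algebraMap R[X] i.S) hlow), add_zero,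
      ← map_add π, ← mul_add, map_mul π, map_pow π]
    exact Ideal.mem_span_singleton.2 (dvd_mul_right _ _))
  exact ⟨⟨t, ht⟩, Ideal.Quotient.eq_zero_iff_mem.1 (by rw [map_mul]; exact hts)⟩

/-- units along the point are invertible modulo `t ^ k` -/
theorem exists_inv_mod (t : i.M) (k : ℕ) :
    ∃ (z e : i.S), (t : i.S) * z = 1 - algebraMap R[X] i.S X ^ k * e := by
  obtain ⟨r, z0, hz0⟩ := exists_sub_pow_mul_S i 1 (t : i.S)
  have ht : IsUnit (i.σ (t : i.S)) := t.2
  rw [hz0, map_add, map_mul, map_pow, AlgHom.commutes, AlgHom.commutes, Ideal.Quotient.algebraMap_eq,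
    Ideal.Quotient.eq_zero_iff_mem.2 (Ideal.mem_span_singleton_self (X : R[X])), pow_one, zero_mul, add_zero] at ht
  obtain ⟨v, hv⟩ := ht.exists_right_inv
  obtain ⟨v, rfl⟩ := Ideal.Quotient.mk_surjective v
  rw [← map_mul, ← map_one (Ideal.Quotient.mk (Ideal.span {(X : R[X])})), Ideal.Quotient.eq,
    Ideal.mem_span_singleton] at hv
  obtain ⟨q, hq⟩ := hv
  obtain ⟨e, he⟩ : algebraMap R[X] i.S X ∣ 1 - (t : i.S) * algebraMap R[X] i.S v := by
    refine ⟨-(algebraMap R[X] i.S q + z0 * algebraMap R[X] i.S v), ?_⟩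
    have h4 := congrArg (algebraMap R[X] i.S) hq
    rw [map_sub, map_one, map_mul, map_mul] at h4
    rw [hz0, pow_one]
    linear_combination (-1 : i.S) * h4
  refine ⟨algebraMap R[X] i.S v * ∑ l ∈ Finset.range k, (1 - (t : i.S) * algebraMap R[X] i.S v) ^ l, e ^ k, ?_⟩
  rw [← mul_pow, ← he, ← mul_neg_geom_sum (1 - (t : i.S) * algebraMap R[X] i.S v) k]
  ring

end nbhd

/-- elementary: if `y Gⁿ = A` and `G z ≡ 1`, then `y ≡ A zⁿ` -/
theorem sub_pow_mem_of_mul_eq {E : Type*} [CommRing E] (I : Ideal E) {y G A z : E} {n : ℕ}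
    (h : y * G ^ n = A) (hz : G * z - 1 ∈ I) : y - A * z ^ n ∈ I := by
  have h1 : (G * z) ^ n - 1 ∈ I := by
    obtain ⟨c, hc⟩ := sub_dvd_pow_sub_pow (G * z) 1 n
    rw [one_pow] at hc
    rw [hc]
    exact I.mul_mem_right _ hz
  have : y - A * z ^ n = -(y * ((G * z) ^ n - 1)) := by rw [← h]; ring
  rw [this]
  exact neg_mem (I.mul_mem_left _ h1)

section weier

open Groth.Agent.Hens

include hB in
theorem exists_nbhd_eq (x : B) : ∃ (i : PNbhd (Ideal.span {(X : R[X])})) (s : i.S) (θ : i.S →ₐ[R[X]] B), θ s = x := by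
  obtain ⟨e⟩ := exists_pairHenselization_equiv _ B hB
  obtain ⟨i, s, hs⟩ := PHs.exists_of_S (e.symm x)
  exact ⟨i, s, e.toAlgHom.comp ((PHs.of i).comp (IsScalarTower.toAlgHom R[X] i.S i.G)),
    (congrArg e hs).trans (e.apply_symm_apply x)⟩

variable [IsLocalRing R] (ψ : B →+* PowerSeries R) (hψ : ∀ p : R[X], ψ (algebraMap R[X] B p) = (p : PowerSeries R))

include hB hψ in
theorem mem_map_iff_coeff (x : B) :
    x ∈ (maximalIdeal R).map (cB R B) ↔ ∀ m, PowerSeries.coeff m (ψ x) ∈ maximalIdeal R := by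
  refine ⟨fun h => coeff_mem_of_mem_map ψ hψ _ h, fun h => ?_⟩
  obtain ⟨i, s, θ, rfl⟩ := exists_nbhd_eq hB x
  obtain ⟨t, ht⟩ := exists_mul_mem i θ ψ hψ s h
  have h2 := Ideal.mem_map_of_mem θ.toRingHom ht
  rw [Ideal.map_map, show θ.toRingHom.comp (algebraMap R[X] i.S) = algebraMap R[X] B from θ.comp_algebraMap,
    map_C_le, map_mul] at h2
  obtain ⟨v, hv⟩ := (isUnit_theta hB i θ ψ hψ t).exists_left_inv
  have : θ s = v * (θ (t : i.S) * θ s) := by rw [← mul_assoc, hv, one_mul]
  rw [this]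
  exact Ideal.mul_mem_left _ _ h2

include hB hψ in
theorem exists_congr_pow (f : B) (hf : f ∉ (maximalIdeal R).map (cB R B)) :
    ∃ (k : ℕ) (v : B), IsUnit v ∧ f - xB ^ k * v ∈ (maximalIdeal R).map (cB R B) := by
  classical
  rw [mem_map_iff_coeff hB ψ hψ] at hf
  push Not at hf
  obtain ⟨k, hk, hmin⟩ : ∃ k, PowerSeries.coeff k (ψ f) ∉ maximalIdeal R ∧
      ∀ j < k, PowerSeries.coeff j (ψ f) ∈ maximalIdeal R :=
    ⟨Nat.find hf, Nat.find_spec hf, fun j hj => not_not.1 (Nat.find_min hf hj)⟩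
  obtain ⟨p, b, rfl⟩ := exists_sub_pow_mul hB f k
  obtain ⟨q, hq⟩ : (X : R[X]) ^ k ∣ p - ∑ j ∈ Finset.range k, Polynomial.C (p.coeff j) * X ^ j := by
    rw [X_pow_dvd_iff]
    intro m hm
    simp [hm]
  have hlow : algebraMap R[X] B (∑ j ∈ Finset.range k, Polynomial.C (p.coeff j) * X ^ j) ∈
      (maximalIdeal R).map (cB R B) := by
    rw [← map_C_le]
    refine Ideal.mem_map_of_mem _ (sum_mem fun j hj => Ideal.mul_mem_right _ _ (Ideal.mem_map_of_mem _ ?_))
    have := hmin j (Finset.mem_range.1 hj)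
    rwa [map_add, map_mul, map_pow, hψ, hψ, Polynomial.coe_X, map_add, PowerSeries.coeff_X_pow_mul',
      if_neg (by simp at hj; omega), add_zero, Polynomial.coeff_coe] at this
  have he : algebraMap R[X] B p + xB ^ k * b - xB ^ k * (algebraMap R[X] B q + b) =
      algebraMap R[X] B (∑ j ∈ Finset.range k, Polynomial.C (p.coeff j) * X ^ j) := by
    conv_lhs => rw [eq_add_of_sub_eq hq, map_add, map_mul, map_pow]
    ring
  refine ⟨k, algebraMap R[X] B q + b, ?_, he ▸ hlow⟩
  rw [isUnit_iff_coeff_zero hB ψ hψ, ← not_not (a := IsUnit _), ← mem_nonunits_iff, ← IsLocalRing.mem_maximalIdeal]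
  intro hmem
  apply hk
  have h1 := coeff_mem_of_mem_map ψ hψ _ (he ▸ hlow) k
  rw [map_sub, map_mul, map_pow, hψ X, Polynomial.coe_X, map_sub (PowerSeries.coeff k),
    PowerSeries.coeff_X_pow_mul', if_pos le_rfl, Nat.sub_self,
    PowerSeries.coeff_zero_eq_constantCoeff] at h1
  simpa using add_mem h1 hmem

end weier

/-- an algebra which modulo `m` is spanned by `1, x, …, x ^ (k-1)` has a finite part with a monic relation -/
theorem exists_monic_relation [HenselianLocalRing R] {E0 : Type u} [CommRing E0] [Algebra R E0]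
    [Algebra.FiniteType R E0] (x : E0) (k : ℕ) (hxk : x ^ k ∈ (maximalIdeal R).map (algebraMap R E0))
    (hpoly : ∀ y : E0, ∃ p : R[X], y - aeval x p ∈ (maximalIdeal R).map (algebraMap R E0)) :
    ∃ (e : E0) (c : Fin k → R), IsIdempotentElem e ∧ 1 - e ∈ (maximalIdeal R).map (algebraMap R E0) ∧
      x ^ k - ∑ j : Fin k, algebraMap R E0 (c j) * x ^ (j : ℕ) ∈ Ideal.span {1 - e} := by
  classical
  set m := maximalIdeal R
  set mE := m.map (algebraMap R E0)
  have hspan : (⊤ : Submodule R E0) ≤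
      Submodule.span R (Set.range fun j : Fin k => x ^ (j : ℕ)) ⊔ m • ⊤ := by
    intro y _
    obtain ⟨p, hp⟩ := hpoly y
    have hp' : y - aeval x p ∈ (m • ⊤ : Submodule R E0) := by rw [Ideal.smul_top_eq_map]; exact hp
    have hlow : aeval x p ∈ Submodule.span R (Set.range fun j : Fin k => x ^ (j : ℕ)) ⊔ m • ⊤ := by
      rw [aeval_eq_sum_range]
      refine sum_mem fun j _ => Submodule.smul_mem _ _ ?_
      by_cases hj : j < k
      · exact Submodule.mem_sup_left (Submodule.subset_span ⟨⟨j, hj⟩, rfl⟩)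
      · refine Submodule.mem_sup_right ?_
        rw [Ideal.smul_top_eq_map, Submodule.restrictScalars_mem, show j = k + (j - k) by omega, pow_add]
        exact mE.mul_mem_right _ hxk
    have := add_mem (Submodule.mem_sup_right hp') hlow
    rwa [sub_add_cancel] at this
  haveI hfin : Module.Finite R (E0 ⧸ mE) := by
    refine ⟨⟨Finset.univ.image fun j : Fin k => Ideal.Quotient.mk mE (x ^ (j : ℕ)), ?_⟩⟩
    rw [Finset.coe_image, Finset.coe_univ, Set.image_univ, eq_top_iff]
    intro y _
    obtain ⟨y, rfl⟩ := Ideal.Quotient.mk_surjective y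
    obtain ⟨a, ha, b', hb', hab⟩ := Submodule.mem_sup.1 (hspan (Submodule.mem_top (x := y)))
    rw [Ideal.smul_top_eq_map] at hb'
    rw [← hab, map_add, Ideal.Quotient.eq_zero_iff_mem.2 hb', add_zero]
    have := Submodule.mem_map_of_mem (f := (Ideal.Quotient.mkₐ R mE).toLinearMap) ha
    rw [Submodule.map_span, ← Set.range_comp] at this
    exact this
  obtain ⟨e, hee, he1, hfinF⟩ := HfpH6.exists_finite_idempotent
    (Hens.henselianRing_maximalIdeal R) (Ideal.Quotient.mkₐ R mE) Ideal.Quotient.mk_surjective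
    (Ideal.Quotient.mkₐ_ker R mE)
  let π : E0 →ₐ[R] E0 ⧸ Ideal.span ({1 - e} : Set E0) := Ideal.Quotient.mkₐ R _
  have hFspan : (⊤ : Submodule R (E0 ⧸ Ideal.span ({1 - e} : Set E0))) ≤
      Submodule.span R (Set.range fun j : Fin k => π (x ^ (j : ℕ))) := by
    refine Submodule.le_of_le_smul_of_le_jacobson_bot Module.Finite.fg_top
      (IsLocalRing.jacobson_eq_maximalIdeal ⊥ (by simp)).ge fun y _ => ?_
    obtain ⟨y, rfl⟩ := Ideal.Quotient.mk_surjective y
    have := Submodule.mem_map_of_mem (f := π.toLinearMap) (hspan (Submodule.mem_top (x := y)))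
    rw [Submodule.map_sup, Submodule.map_span, ← Set.range_comp, Submodule.map_smul''] at this
    obtain ⟨a, ha, b, hb, hab⟩ := Submodule.mem_sup.1 this
    exact Submodule.mem_sup.2 ⟨a, ha, b, Submodule.smul_mono le_rfl le_top hb, hab⟩
  obtain ⟨c, hc⟩ := (Submodule.mem_span_range_iff_exists_fun R).1 (hFspan (Submodule.mem_top (x := π (x ^ k))))
  refine ⟨e, c, hee, ?_, ?_⟩
  · rw [← Ideal.Quotient.eq, map_one]
    exact he1.symm
  · rw [← Ideal.Quotient.eq_zero_iff_mem]
    show π _ = 0
    simp only [map_sub, map_sum, ← Algebra.smul_def, map_smul]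
    rw [hc, sub_self]

section prep

open Groth.Agent.Hens

variable [HenselianLocalRing R] [Algebra R B] [IsScalarTower R R[X] B] (ψ : B →+* PowerSeries R)
  (hψ : ∀ p : R[X], ψ (algebraMap R[X] B p) = (p : PowerSeries R))

theorem cB_eq : cB R B = algebraMap R B := (IsScalarTower.algebraMap_eq R R[X] B).symm

include hB hψ in
theorem map_le_jacobson : (maximalIdeal R).map (cB R B) ≤ (⊥ : Ideal B).jacobson := by
  intro x hx
  rw [Ideal.mem_jacobson_bot]
  intro y
  rw [isUnit_iff_coeff_zero hB ψ hψ, map_add, map_mul, map_one, map_add, map_mul, map_one]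
  have h0 := coeff_mem_of_mem_map ψ hψ _ hx 0
  rw [PowerSeries.coeff_zero_eq_constantCoeff] at h0
  rw [← not_not (a := IsUnit _), ← mem_nonunits_iff, ← IsLocalRing.mem_maximalIdeal]
  intro h1
  refine (IsLocalRing.maximalIdeal.isMaximal R).ne_top ((Ideal.eq_top_iff_one _).2 ?_)
  have := sub_mem h1 (Ideal.mul_mem_right (PowerSeries.constantCoeff (ψ y)) _ h0)
  simpa using this

set_option maxHeartbeats 1600000 in
set_option synthInstance.maxHeartbeats 200000 in
include hB hψ in
/-- Weierstrass preparation for elements congruent to `t ^ k` -/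
theorem exists_weierstrass (b : B) (k : ℕ) (hb : b - xB ^ k ∈ (maximalIdeal R).map (cB R B)) :
    ∃ (Q : R[X]) (u : Bˣ), Q.Monic ∧ Q.natDegree = k ∧ (∀ j < k, Q.coeff j ∈ maximalIdeal R) ∧
      b = algebraMap R[X] B Q * u := by
  classical
  let m := maximalIdeal R
  obtain ⟨i, s, θ, rfl⟩ := exists_nbhd_eq hB b
  obtain ⟨t, ht⟩ := exists_mul_mem i θ ψ hψ (s - algebraMap R[X] i.S X ^ k) (by
    rw [map_sub, map_pow, AlgHom.commutes]
    exact coeff_mem_of_mem_map ψ hψ _ hb)
  obtain ⟨g, hg⟩ : ∃ g : i.S, g = (t : i.S) := ⟨_, rfl⟩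
  let E := Localization.Away g
  let J : Ideal E := Ideal.span {algebraMap i.S E s}
  let E0 := E ⧸ J
  have hθg : IsUnit (θ g) := hg ▸ isUnit_theta hB i θ ψ hψ t
  let θE : E →+* B := IsLocalization.Away.lift g (g := θ.toRingHom) hθg
  have hθE : ∀ x, θE (algebraMap i.S E x) = θ x := fun x => IsLocalization.Away.lift_eq g hθg x
  have hθR : ∀ r : R, θE (algebraMap R E r) = algebraMap R B r := fun r => by
    rw [IsScalarTower.algebraMap_apply R i.S E, hθE, IsScalarTower.algebraMap_apply R R[X] i.S,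
      AlgHom.commutes, ← IsScalarTower.algebraMap_apply]
  haveI : Algebra.FiniteType R i.S := Algebra.FiniteType.trans (S := R[X]) inferInstance inferInstance
  haveI : Algebra.FinitePresentation i.S E := IsLocalization.Away.finitePresentation g
  haveI : Algebra.FiniteType R E := Algebra.FiniteType.trans (S := i.S) inferInstance inferInstance
  haveI : Algebra.FiniteType R E0 := Algebra.FiniteType.of_surjective (Ideal.Quotient.mkₐ R J)
    Ideal.Quotient.mk_surjective
  let xE : E0 := Ideal.Quotient.mk J (algebraMap i.S E (algebraMap R[X] i.S X))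
  set mE := m.map (algebraMap R E0) with hmE
  let γ : i.S →+* E0 := (Ideal.Quotient.mk J).comp (algebraMap i.S E)
  have hγC : ((maximalIdeal R).map (Polynomial.C : R →+* R[X])).map (γ.comp (algebraMap R[X] i.S)) ≤ mE := by
    rw [Ideal.map_map]
    refine le_of_eq (congrArg (fun f => Ideal.map f m) (RingHom.ext fun r => ?_))
    show Ideal.Quotient.mk J (algebraMap i.S E (algebraMap R[X] i.S (Polynomial.C r))) = algebraMap R E0 r
    rw [← Polynomial.algebraMap_eq, ← IsScalarTower.algebraMap_apply, ← IsScalarTower.algebraMap_apply,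
      IsScalarTower.algebraMap_apply R E E0]
    rfl
  have hgu : IsUnit (γ g) := (IsLocalization.Away.algebraMap_isUnit (S := E) g).map (Ideal.Quotient.mk J)
  have hxk : xE ^ k ∈ mE := by
    obtain ⟨v, hv⟩ := hgu.exists_left_inv
    have h1 := Ideal.mem_map_of_mem γ ht
    rw [Ideal.map_map] at h1
    have h2 := mE.mul_mem_left v (hγC h1)
    have hs0 : γ s = 0 := Ideal.Quotient.eq_zero_iff_mem.2 (Ideal.mem_span_singleton_self _)
    rw [← hg, map_mul, map_sub, hs0, zero_sub, map_pow, ← mul_assoc, hv, one_mul, neg_mem_iff] at h2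
    exact h2
  have hpoly : ∀ y : E0, ∃ p : R[X], y - aeval xE p ∈ mE := by
    have hpolyS : ∀ y : i.S, ∃ p : R[X], γ y - aeval xE p ∈ mE := by
      intro y
      obtain ⟨p, z, rfl⟩ := exists_sub_pow_mul_S i k y
      refine ⟨p, ?_⟩
      have : γ (algebraMap R[X] i.S p) = aeval xE p := by
        have h : (γ.comp (algebraMap R[X] i.S)) = (aeval xE : R[X] →ₐ[R] E0).toRingHom := by
          refine Polynomial.ringHom_ext (fun r => ?_) ?_
          · show γ (algebraMap R[X] i.S (Polynomial.C r)) = aeval xE (Polynomial.C r)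
            rw [aeval_C, ← Polynomial.algebraMap_eq, ← IsScalarTower.algebraMap_apply,
              IsScalarTower.algebraMap_apply R E E0, IsScalarTower.algebraMap_apply R i.S E]
            rfl
          · show γ (algebraMap R[X] i.S X) = aeval xE X
            rw [aeval_X]
            rfl
        exact congr($h p)
      rw [map_add, this, add_sub_cancel_left, map_mul, map_pow]
      exact mE.mul_mem_right _ hxk
    intro y
    obtain ⟨y, rfl⟩ := Ideal.Quotient.mk_surjective y
    obtain ⟨n, a, hy⟩ := IsLocalization.Away.surj g y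
    obtain ⟨z, e, hze⟩ := exists_inv_mod i t k
    obtain ⟨p, hp⟩ := hpolyS (a * z ^ n)
    have h9 : Ideal.Quotient.mk J y * γ g ^ n = γ a := by
      show Ideal.Quotient.mk J y * Ideal.Quotient.mk J (algebraMap i.S E g) ^ n = Ideal.Quotient.mk J (algebraMap i.S E a)
      rw [← hy, map_mul (Ideal.Quotient.mk J), map_pow (Ideal.Quotient.mk J)]
    have hze' : g * z = 1 - algebraMap R[X] i.S X ^ k * e := (congrArg (· * z) hg).trans hze
    have h10 : γ g * γ z - 1 ∈ mE := by
      rw [← map_mul, hze', map_sub, map_one, sub_sub_cancel_left, map_mul, map_pow]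
      exact neg_mem (mE.mul_mem_right _ hxk)
    have hm' := sub_pow_mem_of_mul_eq mE h9 h10
    rw [← map_pow γ z, ← map_mul γ a] at hm'
    refine ⟨p, ?_⟩
    have := add_mem hm' hp
    rwa [sub_add_sub_cancel] at this
  obtain ⟨e, c, hee, hmem, hrel⟩ := exists_monic_relation xE k hxk hpoly
  let Q : R[X] := X ^ k - ∑ j : Fin k, Polynomial.C (c j) * X ^ (j : ℕ)
  have hQdeg : (∑ j : Fin k, Polynomial.C (c j) * X ^ (j : ℕ)).degree < (k : WithBot ℕ) :=
    degree_sum_fin_lt c
  have hQm : Q.Monic := monic_X_pow_sub hQdeg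
  have hQd : Q.natDegree = k :=
    natDegree_eq_of_degree_eq_some (by
      rw [degree_sub_eq_left_of_degree_lt (by rwa [degree_X_pow]), degree_X_pow])
  -- to `B`
  let bI : Ideal B := Ideal.span {θ s}
  let Φ : E0 →+* B ⧸ bI := Ideal.Quotient.lift J ((Ideal.Quotient.mk bI).comp θE) fun x hx => by
    obtain ⟨y, rfl⟩ := Ideal.mem_span_singleton.1 hx
    rw [RingHom.comp_apply, Ideal.Quotient.eq_zero_iff_mem, map_mul, hθE]
    exact Ideal.mul_mem_right _ _ (Ideal.mem_span_singleton_self _)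
  have hΦR : ∀ r : R, Φ (algebraMap R E0 r) = Ideal.Quotient.mk bI (algebraMap R B r) := fun r => by
    rw [IsScalarTower.algebraMap_apply R E E0]
    show Ideal.Quotient.mk bI (θE (algebraMap R E r)) = _
    rw [hθR]
  have hΦx : Φ xE = Ideal.Quotient.mk bI xB := by
    show Ideal.Quotient.mk bI (θE _) = _
    rw [hθE, AlgHom.commutes]
  have hΦe : Φ e = 1 := by
    have hid : IsIdempotentElem (Φ e) := hee.map Φ
    obtain ⟨z, hz⟩ := Ideal.Quotient.mk_surjective (Φ e)
    have h1 : Φ (1 - e) ∈ (maximalIdeal R).map ((Ideal.Quotient.mk bI).comp (cB R B)) := by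
      have h2 := Ideal.mem_map_of_mem Φ hmem
      rw [Ideal.map_map] at h2
      convert h2 using 2
      refine RingHom.ext fun r => ?_
      rw [RingHom.comp_apply Φ, hΦR, IsScalarTower.algebraMap_apply R R[X] B, Polynomial.algebraMap_eq]; rfl
    rw [← Ideal.map_map] at h1
    obtain ⟨μ, hμ, hμe⟩ := (Ideal.mem_map_iff_of_surjective _ Ideal.Quotient.mk_surjective).1 h1
    have hu : IsUnit (μ * (-1) + 1) := Ideal.mem_jacobson_bot.1 (map_le_jacobson hB ψ hψ hμ) (-1)
    have hu' : IsUnit (Φ e) := by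
      have := hu.map (Ideal.Quotient.mk bI)
      rwa [map_add, map_mul, map_neg, map_one, hμe, map_sub, map_one,
        show (1 - Φ e) * -1 + 1 = Φ e by ring] at this
    exact hu'.mul_left_cancel (by rw [hid.eq, mul_one])
  have hQb : algebraMap R[X] B Q ∈ bI := by
    rw [← Ideal.Quotient.eq_zero_iff_mem]
    obtain ⟨y, hy⟩ := Ideal.mem_span_singleton.1 hrel
    have h3 := congrArg Φ hy
    simp only [map_sub, map_pow, map_sum, map_mul, map_one, hΦe, sub_self, zero_mul, hΦx, hΦR] at h3
    simp only [Q, map_sub, map_pow, map_sum, map_mul]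
    rw [← h3]
    congr 1
    refine Finset.sum_congr rfl fun j _ => ?_
    rw [IsScalarTower.algebraMap_apply R R[X] B, Polynomial.algebraMap_eq]
  obtain ⟨w, hw⟩ := Ideal.mem_span_singleton.1 hQb
  -- compare coefficients modulo `m`
  let res : PowerSeries R →+* PowerSeries (ResidueField R) := PowerSeries.map (residue R)
  have hbres : res (ψ (θ s)) = PowerSeries.X ^ k := by
    have h4 : res (ψ (θ s - xB ^ k)) = 0 := by
      ext j
      rw [PowerSeries.coeff_map, map_zero, residue_eq_zero_iff]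
      exact coeff_mem_of_mem_map ψ hψ _ hb j
    rwa [map_sub, map_sub, map_pow, map_pow, hψ, Polynomial.coe_X, PowerSeries.map_X, sub_eq_zero] at h4
  have h5 := congrArg (fun z => res (ψ z)) hw
  simp only [map_mul, hbres, hψ] at h5
  have hlow : ∀ j < k, Q.coeff j ∈ maximalIdeal R := fun j hj => by
    have := congrArg (PowerSeries.coeff j) h5
    rwa [PowerSeries.coeff_map, Polynomial.coeff_coe, PowerSeries.coeff_X_pow_mul', if_neg (by omega),
      residue_eq_zero_iff] at this
  have hwu : IsUnit w := by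
    rw [isUnit_iff_coeff_zero hB ψ hψ, ← not_not (a := IsUnit _), ← mem_nonunits_iff, ← IsLocalRing.mem_maximalIdeal,
      ← residue_eq_zero_iff]
    have := congrArg (PowerSeries.coeff k) h5
    rw [PowerSeries.coeff_map, Polynomial.coeff_coe, PowerSeries.coeff_X_pow_mul', if_pos le_rfl, Nat.sub_self,
      PowerSeries.coeff_map, PowerSeries.coeff_zero_eq_constantCoeff] at this
    rw [← this, ← hQd, hQm.coeff_natDegree, map_one]
    exact one_ne_zero
  exact ⟨Q, hwu.unit⁻¹, hQm, hQd, hlow, by rw [hw, mul_assoc, IsUnit.mul_val_inv, mul_one]⟩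

include hB in
/-- `R[X]/(Q) = B/(Q)` for a Weierstrass polynomial `Q` -/
theorem quotient_bijective (Q : R[X]) (hQ : Q.Monic) (hlow : ∀ j < Q.natDegree, Q.coeff j ∈ maximalIdeal R) :
    Function.Bijective (Ideal.quotientMap (Ideal.span {algebraMap R[X] B Q}) (algebraMap R[X] B)
      (Ideal.map_le_iff_le_comap.1 (le_of_eq (by rw [Ideal.map_span, Set.image_singleton])) :
        Ideal.span {Q} ≤ (Ideal.span {algebraMap R[X] B Q}).comap (algebraMap R[X] B))) := by
  let S := AdjoinRoot Q
  haveI : Module.Finite R S := hQ.finite_adjoinRoot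
  have hS : HenselianRing S ((maximalIdeal R).map (algebraMap R S)) :=
    henselianRing_of_isIntegral (henselianRing_maximalIdeal R)
  have hroot : AdjoinRoot.root Q ∈ ((maximalIdeal R).map (algebraMap R S)).radical := by
    refine ⟨Q.natDegree, ?_⟩
    have h0 : aeval (AdjoinRoot.root Q) Q = 0 := by rw [AdjoinRoot.aeval_eq, AdjoinRoot.mk_self]
    rw [aeval_eq_sum_range, Finset.sum_range_succ, hQ.coeff_natDegree, one_smul] at h0
    rw [eq_neg_of_add_eq_zero_right h0]
    refine neg_mem (sum_mem fun j hj => ?_)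
    rw [Algebra.smul_def]
    exact Ideal.mul_mem_right _ _ (Ideal.mem_map_of_mem _ (hlow j (Finset.mem_range.1 hj)))
  obtain ⟨g, hg, -⟩ := hB.2 S (Ideal.span {AdjoinRoot.root Q}) (AdjoinRoot.mk Q)
    (henselianRing_of_le (henselianRing_radical hS) ((Ideal.span_singleton_le_iff_mem _).2 hroot))
    (by rw [Ideal.map_span, Set.image_singleton, AdjoinRoot.mk_X])
  let QI : Ideal B := Ideal.span {algebraMap R[X] B Q}
  let g' : B ⧸ QI →+* S := Ideal.Quotient.lift QI g fun x hx => by
    obtain ⟨y, rfl⟩ := Ideal.mem_span_singleton.1 hx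
    have hgQ : g (algebraMap R[X] B Q) = AdjoinRoot.mk Q Q := congr($hg Q)
    rw [map_mul, hgQ, AdjoinRoot.mk_self, zero_mul]
  refine ⟨Function.LeftInverse.injective (g := g') fun x => ?_, fun y => ?_⟩
  · obtain ⟨p, rfl⟩ := Ideal.Quotient.mk_surjective x
    exact congr($hg p)
  · obtain ⟨b, rfl⟩ := Ideal.Quotient.mk_surjective y
    let lift : S →+* B ⧸ QI := Ideal.quotientMap QI (algebraMap R[X] B)
      (Ideal.map_le_iff_le_comap.1 (le_of_eq (by rw [Ideal.map_span, Set.image_singleton])))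
    have hT : HenselianRing (B ⧸ QI) ((Ideal.span {xB}).map (algebraMap B (B ⧸ QI))) :=
      henselianRing_of_isIntegral (pairX_henselian hB)
    obtain ⟨G, -, hu⟩ := hB.2 (B ⧸ QI) _ ((Ideal.Quotient.mk QI).comp (algebraMap R[X] B)) hT (by
      rw [← Ideal.map_map, Ideal.map_span _ {X}, Set.image_singleton, Ideal.Quotient.algebraMap_eq])
    have e : lift.comp g = Ideal.Quotient.mk QI :=
      (hu _ (RingHom.ext fun p => show lift (g (algebraMap R[X] B p)) = _ by
        rw [show g (algebraMap R[X] B p) = AdjoinRoot.mk Q p from congr($hg p)]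
        exact Ideal.quotientMap_mk)).trans (hu _ rfl).symm
    exact ⟨g b, congr($e b)⟩

end prep

end Groth.Agent.DenseProj
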