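import Groth.Agent.Lib.DenseProj.Basic
import Groth.Agent.Lib.Hens.Pair
import Mathlib

/-!
# `A[1/t]` inside `Ah[1/t]` when `Ah` has the same truncations as `A`

If moreover `(A, t)` is henselian, idempotent matrices and hence finite projective modules descend.
-/

set_option autoImplicit false
universe u

open Polynomial

namespace Groth.Agent.DenseProj

variable {A Ah : Type u} [CommRing A] [CommRing Ah]

/-- `Ah` has the same `t`-adic truncations as `A` -/
structure Cpl (ι : A →+* Ah) (t : A) : Prop where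
  approx : ∀ (x : Ah) (N : ℕ), ∃ (a : A) (b : Ah), x = ι a + ι t ^ N * b
  refl : ∀ (a : A) (N : ℕ) (b : Ah), ι a = ι t ^ N * b → ∃ c, a = t ^ N * c
  jac : t ∈ (⊥ : Ideal A).jacobson
  jac' : ι t ∈ (⊥ : Ideal Ah).jacobson

variable {ι : A →+* Ah} {t : A} {L L' : Type u} [CommRing L] [CommRing L'] [Algebra A L] [Algebra Ah L']
  [IsLocalization.Away t L] [IsLocalization.Away (ι t) L'] {φ : L →+* L'}

/-- `A[1/t]` is dense in `Ah[1/t]` -/
noncomputable def Cpl.dense (C : Cpl ι t) (hφ : ∀ a : A, φ (algebraMap A L a) = algebraMap Ah L' (ι a)) :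
    Dense φ where
  B := (algebraMap Ah L').range
  u := (IsLocalization.Away.algebraMap_isUnit (S := L') (ι t)).unit
  u_mem := ⟨ι t, rfl⟩
  bdd x := by
    obtain ⟨k, a, ha⟩ := IsLocalization.Away.surj (ι t) x
    exact ⟨k, a, by rw [Units.val_pow_eq_pow_val, IsUnit.unit_spec, ← ha, mul_comm]⟩
  dense x k := by
    obtain ⟨j, xh, hx⟩ := IsLocalization.Away.surj (ι t) x
    obtain ⟨a, b, rfl⟩ := C.approx xh (k + j)
    obtain ⟨v, hv⟩ : ∃ v : L, v * algebraMap A _ t = 1 :=
      (IsLocalization.Away.algebraMap_isUnit (S := L) t).exists_left_inv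
    refine ⟨algebraMap A _ a * v ^ j, b, ?_⟩
    rw [zpow_neg, zpow_natCast, Units.eq_inv_mul_iff_mul_eq, Units.val_pow_eq_pow_val, IsUnit.unit_spec]
    refine ((IsLocalization.Away.algebraMap_isUnit (S := L') (ι t)).pow j).mul_left_injective ?_
    show _ * algebraMap Ah L' (ι t) ^ j = (x - φ (algebraMap A _ a * v ^ j)) * algebraMap Ah L' (ι t) ^ j
    have hv' : φ v * algebraMap Ah L' (ι t) = 1 := by rw [← hφ, ← map_mul, hv, map_one]
    rw [sub_mul, hx, map_mul, map_pow, mul_assoc (φ _), ← mul_pow, hv', one_pow, mul_one, hφ, map_add,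
      add_sub_cancel_left, map_mul, map_pow]
    ring
  unitL y hy := by
    obtain ⟨n, a, hy'⟩ := IsLocalization.Away.surj t y
    obtain ⟨b, hb⟩ := hy
    rw [Units.eq_inv_mul_iff_mul_eq, IsUnit.unit_spec] at hb
    have h1 : algebraMap Ah L' (ι a - ι t ^ n * (1 + ι t * b)) = 0 := by
      have := congrArg φ hy'
      rw [map_mul, map_pow, hφ, hφ] at this
      rw [map_sub, ← this, map_mul, map_pow, map_add, map_one, map_mul, hb]
      ring
    obtain ⟨⟨_, c, rfl⟩, hc⟩ := (IsLocalization.map_eq_zero_iff (Submonoid.powers (ι t)) L' _).1 h1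
    obtain ⟨b0, d, rfl⟩ := C.approx b (c + n + 2)
    obtain ⟨e, he⟩ := C.refl (t ^ c * a - t ^ (c + n) * (1 + t * b0)) (c + n + 2)
      (ι t ^ (c + n + 1) * d) (by
      simp only [map_sub, map_mul, map_pow, map_add, map_one] at hc ⊢
      linear_combination hc)
    have hu : IsUnit (1 + t * (b0 + t * e)) := by
      have := (Ideal.mem_jacobson_bot.1 C.jac) (b0 + t * e)
      rwa [add_comm] at this
    have h3 : t ^ c * a = t ^ (c + n) * (1 + t * (b0 + t * e)) := by linear_combination he
    have h4 := congrArg (algebraMap A L) h3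
    rw [map_mul, map_mul, map_pow, map_pow, ← hy'] at h4
    have htu := IsLocalization.Away.algebraMap_isUnit (S := L) t
    have : IsUnit (algebraMap A L t ^ c * (y * algebraMap A L t ^ n)) :=
      h4 ▸ (htu.pow _).mul (hu.map _)
    exact isUnit_of_mul_isUnit_left (isUnit_of_mul_isUnit_right this)
  unitL' x hx := by
    obtain ⟨b, hb⟩ := hx
    rw [Units.eq_inv_mul_iff_mul_eq, IsUnit.unit_spec, ← map_mul] at hb
    have : x = algebraMap Ah L' (ι t * b + 1) := by rw [map_add, hb, map_one, sub_add_cancel]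
    rw [this]
    exact ((Ideal.mem_jacobson_bot.1 C.jac') b).map _

/-- small elements of `A[1/t]` are highly divisible -/
theorem Cpl.exists_eq_pow_mul (C : Cpl ι t) (hφ : ∀ a : A, φ (algebraMap A L a) = algebraMap Ah L' (ι a))
    (y : L) (k : ℕ) (hy : (C.dense hφ).Nb k (φ y)) :
    ∃ a : A, y = algebraMap A L t ^ k * algebraMap A L a := by
  obtain ⟨n, a, hy'⟩ := IsLocalization.Away.surj t y
  obtain ⟨b, hb⟩ := hy
  simp only [Cpl.dense] at hb
  rw [zpow_neg, zpow_natCast, Units.eq_inv_mul_iff_mul_eq, Units.val_pow_eq_pow_val, IsUnit.unit_spec] at hb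
  have h1 : algebraMap Ah L' (ι a - ι t ^ (n + k) * b) = 0 := by
    have := congrArg φ hy'
    rw [map_mul, map_pow, hφ, hφ] at this
    rw [map_sub, ← this, map_mul, map_pow, ← hb]
    ring
  obtain ⟨⟨_, c, rfl⟩, hc⟩ := (IsLocalization.map_eq_zero_iff (Submonoid.powers (ι t)) L' _).1 h1
  obtain ⟨e, he⟩ := C.refl (t ^ c * a) (c + n + k) b (by
    simp only [map_mul, map_pow] at hc ⊢
    linear_combination hc)
  refine ⟨e, ((IsLocalization.Away.algebraMap_isUnit (S := L) t).pow (c + n)).mul_left_cancel ?_⟩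
  calc algebraMap A L t ^ (c + n) * y = algebraMap A L t ^ c * (y * algebraMap A L t ^ n) := by ring
    _ = algebraMap A L (t ^ c * a) := by rw [hy', map_mul, map_pow]
    _ = algebraMap A L t ^ (c + n) * (algebraMap A L t ^ k * algebraMap A L e) := by
      rw [he, map_mul, map_pow]; ring

theorem eq_zero_of_idem_sub {S : Type u} [CommRing S] {x y : S} (hx : IsIdempotentElem x)
    (hy : IsIdempotentElem y) (hu : IsUnit (1 - (x - y) * (x - y))) : x = y := by
  refine sub_eq_zero.1 (hu.mul_left_cancel ?_)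
  rw [mul_zero]
  linear_combination (-(1 : S) + 3 * y) * hx.eq + (1 - 3 * x) * hy.eq +
    (-(1 : S) * x) * hx.eq + y * hy.eq

/-- idempotents of `A[1/t]` are determined by their image -/
theorem Dense.idem_injective {φ : L →+* L'} (D : Dense φ) {x y : L} (hx : IsIdempotentElem x)
    (hy : IsIdempotentElem y) (h : φ x = φ y) : x = y :=
  eq_zero_of_idem_sub hx hy (D.unitL _ (by simp [map_mul, h, zero_mem]))

section henselian

variable {m : Type} [Fintype m] [DecidableEq m]

/-- over a henselian pair, `σ² - σ + t v = 0` is solvable in the algebra generated by `v` -/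
theorem exists_quadratic_root [HenselianRing A (Ideal.span {t})] {S : Type u} [Ring S] [Algebra A S]
    [Algebra.IsIntegral A S] (v : S) (k : ℕ) (hk : 1 ≤ k) :
    ∃ τ : S, τ ∈ Algebra.adjoin A {v} ∧
      (t ^ k • τ) * (t ^ k • τ) - t ^ k • τ + (t ^ k • v) * ((1 : S) + (4 * (t ^ k • τ) * (t ^ k • τ) - 4 * (t ^ k • τ))) = 0 := by
  classical
  set C := Algebra.adjoin A ({v} : Set S) with hC
  let _ : CommRing C := Algebra.adjoinCommRingOfComm A (by
    intro a ha b hb
    rw [Set.mem_singleton_iff.1 ha, Set.mem_singleton_iff.1 hb])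
  haveI : Algebra.IsIntegral A C := ⟨fun x =>
    (isIntegral_algHom_iff C.val Subtype.val_injective).1 (Algebra.IsIntegral.isIntegral (R := A) (x : S))⟩
  have hH : HenselianRing C ((Ideal.span ({t} : Set A)).map (algebraMap A C)) :=
    Hens.henselianRing_of_isIntegral inferInstance
  let vC : C := ⟨v, Algebra.subset_adjoin rfl⟩
  let s : C := algebraMap A C t ^ k
  have hsI : s ∈ (Ideal.span ({t} : Set A)).map (algebraMap A C) :=
    Ideal.pow_mem_of_mem _ (Ideal.mem_map_of_mem _ (Ideal.mem_span_singleton_self t)) k hk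
  let w : C := s * vC
  have hw4 : IsUnit (4 * w + 1) := by
    have := Ideal.mem_jacobson_bot.1 (hH.jac hsI) (4 * vC)
    convert this using 1
    ring
  obtain ⟨i, hi⟩ := hw4.exists_left_inv
  obtain ⟨σ, hσ, hσI⟩ := hH.is_henselian (Polynomial.X ^ 2 + (Polynomial.C (-1 : C) * Polynomial.X +
      Polynomial.C (w * i))) (monic_X_pow_add (by compute_degree!)) 0
    (by
      simp only [eval_add, eval_pow, eval_X, eval_mul, eval_C, zero_pow two_ne_zero, mul_zero, zero_add]
      exact Ideal.mul_mem_right _ _ (Ideal.mul_mem_right _ _ hsI))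
    (by simp [derivative_pow])
  rw [sub_zero] at hσI
  have hroot : σ ^ 2 + (-σ + w * i) = 0 := by
    simpa using hσ
  have hu1 : IsUnit (σ * (-1) + 1) := Ideal.mem_jacobson_bot.1 (hH.jac hσI) (-1)
  obtain ⟨j, hj⟩ := hu1.exists_left_inv
  have hσs : σ = s * (vC * i * j) := by linear_combination (-σ) * hj - j * hroot
  have key : σ * σ - σ + w * (1 + (4 * σ * σ - 4 * σ)) = 0 := by
    linear_combination (4 * w + 1) * hroot - w * hi
  refine ⟨((vC * i * j : C) : S), (vC * i * j).2, ?_⟩
  have hsS : ∀ x : C, ((s * x : C) : S) = t ^ k • (x : S) := fun x => by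
    simp only [s, ← map_pow, ← Algebra.smul_def]
    rfl
  have h4 : ((4 : C) : S) = 4 := map_ofNat C.val 4
  have := congrArg C.val key
  simp only [map_add, map_sub, map_mul, map_one, map_zero, map_ofNat] at this
  rw [hσs] at this
  simpa only [Subalgebra.coe_val, hsS, w] using this

theorem Cpl.exists_idem_matrix_close (C : Cpl ι t) [HenselianRing A (Ideal.span {t})]
    (hφ : ∀ a : A, φ (algebraMap A L a) = algebraMap Ah L' (ι a))
    (e : Matrix m m L') (he : e * e = e) (k₀ : ℕ) :
    ∃ P : Matrix m m L, P * P = P ∧ (C.dense hφ).MNb k₀ (e - P.map φ) := by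
  classical
  let D := C.dense hφ
  obtain ⟨a, ha⟩ := D.exists_mnb e
  obtain ⟨k, hk⟩ : ∃ k, k = 2 * a + 2 + k₀ := ⟨_, rfl⟩
  obtain ⟨E, hE⟩ := D.exists_approx e (k + a)
  have bE : D.MNb (-(a : ℤ)) (E.map φ) := fun i j => by
    have := D.nb_sub (ha i j) (D.nb_mono (hE i j) (by omega : (-(a : ℤ)) ≤ ((k + a : ℕ) : ℤ)))
    rwa [Matrix.sub_apply, sub_sub_cancel] at this
  have hone : D.MNb (-(a : ℤ)) (1 : Matrix m m L') := fun i j => by
    rcases eq_or_ne i j with rfl | h
    · rw [Matrix.one_apply_eq]; exact D.nb_mono D.nb_one (by omega)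
    · rw [Matrix.one_apply_ne h]; exact D.nb_zero _
  have hw : D.MNb k ((E * E - E).map φ) := by
    have heq : (E * E - E).map φ = (E.map φ + (-1 : Matrix m m L')) * (E.map φ - e) + (E.map φ - e) * e := by
      simp only [Matrix.map_sub _ (map_sub φ), Matrix.map_mul, Matrix.add_mul, Matrix.mul_sub, Matrix.sub_mul,
        he, Matrix.neg_mul, Matrix.one_mul]
      abel
    rw [heq]
    have d : D.MNb ((k + a : ℕ) : ℤ) (E.map φ - e) := fun i j => by
      have := D.nb_sub (D.nb_zero _) (hE i j)
      simpa using this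
    have hneg : D.MNb (-(a : ℤ)) (-1 : Matrix m m L') := fun i j => by
      have := D.nb_sub (D.nb_zero _) (hone i j)
      simpa using this
    exact D.mnb_add (D.mnb_mul (D.mnb_add bE hneg le_rfl le_rfl) d (c := k) (by omega))
      (D.mnb_mul d ha (c := k) (by omega)) le_rfl le_rfl
  choose v hv using fun i j => C.exists_eq_pow_mul hφ ((E * E - E) i j) k (hw i j)
  obtain ⟨τ, hτC, hτ⟩ := exists_quadratic_root (t := t) (Matrix.of v : Matrix m m A) k (by omega)
  let g : Matrix m m A →ₐ[A] Matrix m m L := (Algebra.ofId A L).mapMatrix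
  let w := E * E - E
  have hgv : g (t ^ k • Matrix.of v) = w := Matrix.ext fun i j => by
    show algebraMap A L (t ^ k * v i j) = w i j
    rw [map_mul, map_pow]; exact (hv i j).symm
  have hcomm : Commute E (g τ) := by
    have hv' : Commute E (g (Matrix.of v)) := by
      have hu := (IsLocalization.Away.algebraMap_isUnit (S := L) t).pow k
      have h2 : w = algebraMap A L t ^ k • g (Matrix.of v) := by
        rw [← hgv, map_smul, ← map_pow, algebraMap_smul]
      have hc : Commute E w := ((Commute.refl E).mul_right (Commute.refl E)).sub_right (Commute.refl E)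
      rw [h2, commute_iff_eq, Matrix.mul_smul, Matrix.smul_mul] at hc
      exact (hu.smul_left_cancel).1 hc
    clear hτ
    induction hτC using Algebra.adjoin_induction with
    | mem x hx => rw [Set.mem_singleton_iff.1 hx]; exact hv'
    | algebraMap r => rw [AlgHom.commutes]; exact (Algebra.commute_algebraMap_right r E)
    | add x y _ _ hx hy => rw [map_add]; exact hx.add_right hy
    | mul x y _ _ hx hy => rw [map_mul]; exact hx.mul_right hy
  let σ := g (t ^ k • τ)
  have hEσ : Commute E σ := by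
    show Commute E (g (t ^ k • τ))
    rw [map_smul]
    exact hcomm.smul_right _
  have hroot : σ * σ - σ + w * (1 + (4 * σ * σ - 4 * σ)) = 0 := by
    have := congrArg g hτ
    simpa only [map_add, map_sub, map_mul, map_one, map_zero, map_ofNat, hgv] using this
  let P := E + (1 - 2 * E) * σ
  have hσE : σ * E = E * σ := hEσ.eq.symm
  have hσE' : ∀ X, σ * (E * X) = E * (σ * X) := fun X => by rw [← Matrix.mul_assoc, hσE, Matrix.mul_assoc]
  have hPP : P * P = P := by
    rw [← sub_eq_zero, ← hroot]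
    simp only [P, w, Matrix.mul_add, Matrix.add_mul, Matrix.mul_sub, Matrix.sub_mul, Matrix.one_mul,
      Matrix.mul_one, two_mul, show (4 : Matrix m m L) = 1 + 1 + 1 + 1 by norm_num, Matrix.mul_assoc, hσE, hσE']
    abel
  have bσ : D.MNb k (σ.map φ) := fun i j => ⟨ι (τ i j), by
    show _ = _ * φ (algebraMap A L (t ^ k * τ i j))
    rw [hφ, map_mul, map_pow, zpow_neg, zpow_natCast, Units.eq_inv_mul_iff_mul_eq,
      Units.val_pow_eq_pow_val, map_mul, map_pow]
    rfl⟩
  refine ⟨P, hPP, ?_⟩
  show D.MNb (k₀ : ℤ) (e - P.map φ)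

  have hd : e - P.map φ = (e - E.map φ) + ((E.map φ + (E.map φ + (-1 : Matrix m m L'))) * σ.map φ) := by
    simp only [P, Matrix.map_add _ (map_add φ), Matrix.map_mul, Matrix.map_sub _ (map_sub φ),
      Matrix.map_one _ (map_zero φ) (map_one φ), two_mul, Matrix.sub_mul, Matrix.add_mul, Matrix.one_mul,
      Matrix.neg_mul]
    abel
  rw [hd]
  have hneg : D.MNb (-(a : ℤ)) (-1 : Matrix m m L') := fun i j => by
    have := D.nb_sub (D.nb_zero _) (hone i j)
    simpa using this
  exact D.mnb_add hE (D.mnb_mul (D.mnb_add bE (D.mnb_add bE hneg le_rfl le_rfl) le_rfl le_rfl) bσ le_rfl)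
    (by omega) (by omega)


theorem Cpl.exists_idem_matrix (C : Cpl ι t) [HenselianRing A (Ideal.span {t})]
    (hφ : ∀ a : A, φ (algebraMap A L a) = algebraMap Ah L' (ι a))
    (e : Matrix m m L') (he : e * e = e) :
    ∃ P : Matrix m m L, P * P = P ∧ Sim (P.map φ) e := by
  classical
  let D := C.dense hφ
  obtain ⟨a, ha⟩ := D.exists_mnb e
  obtain ⟨P, hPP, bPe'⟩ := C.exists_idem_matrix_close hφ e he (a + 1)
  have bPe : D.MNb ((a : ℤ) + 1) (e - P.map φ) := fun i j => D.nb_mono (bPe' i j) (by omega)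
  have hone : D.MNb (-(a : ℤ)) (1 : Matrix m m L') := fun i j => by
    rcases eq_or_ne i j with rfl | h
    · rw [Matrix.one_apply_eq]; exact D.nb_mono D.nb_one (by omega)
    · rw [Matrix.one_apply_ne h]; exact D.nb_zero _
  refine ⟨P, hPP, ?_⟩
  set p := P.map φ with hp
  have hpp : p * p = p := by rw [hp, ← Matrix.map_mul, hPP]
  obtain ⟨U, hU⟩ := D.isUnit_of_close' (X := p * e + (1 - p) * (1 - e)) (by
    have heq : p * e + (1 - p) * (1 - e) - 1 = (p - e + ((p - e) + ((e + (e + (-1 : Matrix m m L'))))))  * (e - p) := by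
      simp only [Matrix.mul_sub, Matrix.sub_mul, Matrix.add_mul, Matrix.one_mul, Matrix.mul_one, he, hpp,
        Matrix.neg_mul]
      abel
    rw [heq]
    have bpe : D.MNb (-(a : ℤ)) (p - e) := fun i j => by
      have := D.nb_sub (D.nb_zero _) (D.nb_mono (bPe i j) (by omega : (-(a : ℤ)) ≤ (a : ℤ) + 1))
      simpa using this
    have hneg : D.MNb (-(a : ℤ)) (-1 : Matrix m m L') := fun i j => by
      have := D.nb_sub (D.nb_zero _) (hone i j)
      simpa using this
    exact D.mnb_mul (D.mnb_add bpe (D.mnb_add bpe (D.mnb_add ha (D.mnb_add ha hneg le_rfl le_rfl) le_rfl le_rfl)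
      le_rfl le_rfl) le_rfl le_rfl) bPe (by omega))
  have hpU : p * (U : Matrix m m L') = p * e := by
    rw [hU]
    simp only [Matrix.mul_add, Matrix.sub_mul, Matrix.mul_sub, Matrix.mul_one, Matrix.one_mul,
      ← Matrix.mul_assoc, hpp]
    abel
  have hUe : (U : Matrix m m L') * e = p * e := by
    rw [hU]
    simp only [Matrix.add_mul, Matrix.sub_mul, Matrix.mul_sub, Matrix.mul_one, Matrix.one_mul,
      Matrix.mul_assoc, he]
    abel
  refine ⟨p * U, (↑U⁻¹ : Matrix m m L') * p, ?_, ?_, ?_, ?_, ?_, ?_⟩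
  · rw [Matrix.mul_assoc, ← Matrix.mul_assoc (U : Matrix m m L'), Units.mul_inv, Matrix.one_mul, hpp]
  · rw [Matrix.mul_assoc, ← Matrix.mul_assoc p p, hpp, hpU, ← hUe, ← Matrix.mul_assoc, Units.inv_mul, Matrix.one_mul]
  · rw [← Matrix.mul_assoc, hpp]
  · rw [Matrix.mul_assoc, hUe, ← Matrix.mul_assoc, hpp, hpU]
  · have h2 : e = (↑U⁻¹ : Matrix m m L') * (p * U) := by
      rw [hpU, ← hUe, ← Matrix.mul_assoc, Units.inv_mul, Matrix.one_mul]
    conv_lhs => arg 1; rw [h2]
    simp only [Matrix.mul_assoc]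
    rw [← Matrix.mul_assoc (U : Matrix m m L') (↑U⁻¹ : Matrix m m L') p, Units.mul_inv, Matrix.one_mul, hpp]
  · rw [Matrix.mul_assoc, hpp]

end henselian

/-- a module presented by an idempotent matrix coming from `L` descends -/
theorem exists_module_descend [Algebra L L'] {M' : Type u} [AddCommGroup M'] [Module L' M']
    (q : Pres (R := L') M') (e0 : Matrix (Fin q.k) (Fin q.k) L) (he0 : e0 * e0 = e0)
    (h : Sim (e0.map (algebraMap L L')) q.e) :
    ∃ (M : Type u) (_ : AddCommGroup M) (_ : Module L M), Module.Finite L M ∧ Module.Projective L M ∧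
      Nonempty (TensorProduct L L' M ≃ₗ[L'] M') := by
  let M := LinearMap.range (Matrix.mulVecLin e0)
  let p : Pres (R := L) M :=
    { k := q.k
      π := (Matrix.mulVecLin e0).rangeRestrict
      s := M.subtype
      hs := fun z => by
        obtain ⟨z, v, rfl⟩ := z
        apply Subtype.ext
        simp [Matrix.mulVec_mulVec, he0] }
  have hp : p.e = e0 := by
    rw [Pres.e, show p.s.comp p.π = Matrix.mulVecLin e0 from LinearMap.ext fun v => rfl]
    exact LinearMap.toMatrix'_toLin' e0
  have hfin : Module.Finite L M := Module.Finite.of_surjective p.π fun z => ⟨_, p.hs z⟩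
  have hproj : Module.Projective L M := Module.Projective.of_split p.s p.π (LinearMap.ext p.hs)
  refine ⟨M, inferInstance, inferInstance, hfin, hproj, linearEquiv_of_sim (p.baseChange (L' := L')) q ?_⟩
  rw [Pres.baseChange_e, hp]
  exact h

theorem Cpl.exists_projective_descend (C : Cpl ι t) [HenselianRing A (Ideal.span {t})] [Algebra L L']
    (hφ : ∀ a : A, algebraMap L L' (algebraMap A L a) = algebraMap Ah L' (ι a))
    (M' : Type u) [AddCommGroup M'] [Module L' M'] [Module.Finite L' M'] [Module.Projective L' M'] :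
    ∃ (M : Type u) (_ : AddCommGroup M) (_ : Module L M), Module.Finite L M ∧ Module.Projective L M ∧
      Nonempty (TensorProduct L L' M ≃ₗ[L'] M') := by
  obtain ⟨q⟩ := exists_pres (R := L') (M := M')
  obtain ⟨P, hP, hsim⟩ := C.exists_idem_matrix hφ q.e q.e_sq
  exact exists_module_descend q P hP hsim

end Groth.Agent.DenseProj
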