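import Groth.Agent.Lib.DenseProj.Henselian
import Groth.Agent.Lib.DenseProj.Away
import Groth.Agent.Lib.Hens.PairApi
import Mathlib

/-! The two standard examples of `Cpl`: the completion, and `R{X} ⊂ R⟦X⟧`. -/

set_option autoImplicit false
universe u

open Polynomial

namespace Groth.Agent.DenseProj

theorem cpl_adicCompletion {A : Type u} [CommRing A] {t : A} (ht : t ∈ (⊥ : Ideal A).jacobson) :
    Cpl (algebraMap A (AdicCompletion (Ideal.span ({t} : Set A)) A)) t where
  approx x N := exists_approx x N
  refl a N b h := by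
    have h2 := congrArg (AdicCompletion.evalₐ (Ideal.span ({t} : Set A)) N) h
    rw [map_mul, map_pow, evalA_algebraMap, evalA_algebraMap, ← map_pow,
      Ideal.Quotient.eq_zero_iff_mem.2 (Ideal.pow_mem_pow (Ideal.mem_span_singleton_self t) N), zero_mul,
      Ideal.Quotient.eq_zero_iff_mem, Ideal.span_singleton_pow, Ideal.mem_span_singleton] at h2
    exact h2
  jac := ht
  jac' := t_mem_jacobson

variable {R : Type u} [CommRing R] {B : Type u} [CommRing B] [Algebra R[X] B]
  (hB : Hens2.IsPairHenselization R[X] (Ideal.span {(X : R[X])}) B)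

include hB in
theorem pairX_henselian : HenselianRing B (Ideal.span {algebraMap R[X] B X}) := by
  have := hB.1
  rwa [Ideal.map_span, Set.image_singleton] at this

include hB in
theorem exists_psi : ∃ ψ : B →+* PowerSeries R, ∀ p : R[X], ψ (algebraMap R[X] B p) = (p : PowerSeries R) := by
  haveI hc : IsAdicComplete (Ideal.span {(PowerSeries.X : PowerSeries R)}) (PowerSeries R) := inferInstance
  obtain ⟨g, hg, -⟩ := hB.2 (PowerSeries R) (Ideal.span {(PowerSeries.X : PowerSeries R)})
    Polynomial.coeToPowerSeries.ringHom inferInstance (by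
      rw [Ideal.map_span, Set.image_singleton, Polynomial.coeToPowerSeries.ringHom_apply, Polynomial.coe_X])
  exact ⟨g, fun p => (congr($hg p) : _).trans (Polynomial.coeToPowerSeries.ringHom_apply)⟩

include hB in
theorem exists_sub_pow_mul (x : B) (N : ℕ) :
    ∃ (p : R[X]) (b : B), x = algebraMap R[X] B p + algebraMap R[X] B X ^ N * b := by
  have hK : Ideal.span {(X : R[X])} ≤ (Ideal.span {(X : R[X]) ^ N}).radical := by
    rw [Ideal.span_singleton_le_iff_mem]
    exact ⟨N, Ideal.mem_span_singleton_self _⟩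
  obtain ⟨y, hy⟩ := (Hens.IsPairHenselization.quotientMap_bijective hB _ hK).2 (Ideal.Quotient.mk _ x)
  obtain ⟨p, rfl⟩ := Ideal.Quotient.mk_surjective y
  rw [Ideal.quotientMap_mk, Ideal.Quotient.eq, Ideal.map_span, Set.image_singleton, Ideal.mem_span_singleton] at hy
  obtain ⟨c, hc⟩ := hy
  exact ⟨p, -c, by rw [mul_neg, ← map_pow, ← hc]; ring⟩

include hB in
theorem cpl_powerSeries (ψ : B →+* PowerSeries R) (hψ : ∀ p : R[X], ψ (algebraMap R[X] B p) = (p : PowerSeries R)) :
    Cpl ψ (algebraMap R[X] B X) where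
  approx x N := by
    obtain ⟨b, hb⟩ : (PowerSeries.X : PowerSeries R) ^ N ∣ x - (PowerSeries.trunc N x : PowerSeries R) := by
      rw [PowerSeries.X_pow_dvd_iff]
      intro m hm
      simp [PowerSeries.coeff_trunc, hm]
    refine ⟨algebraMap R[X] B (PowerSeries.trunc N x), b, ?_⟩
    rw [hψ, hψ, Polynomial.coe_X, ← hb, add_sub_cancel]
  refl a N b h := by
    obtain ⟨p, c, rfl⟩ := exists_sub_pow_mul hB a N
    rw [map_add, hψ, map_mul, map_pow, hψ, Polynomial.coe_X] at h
    obtain ⟨q, rfl⟩ : (X : R[X]) ^ N ∣ p := by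
      rw [X_pow_dvd_iff]
      intro m hm
      have h2 := congrArg (PowerSeries.coeff m) h
      rw [map_add, PowerSeries.coeff_X_pow_mul', PowerSeries.coeff_X_pow_mul', if_neg (by omega),
        if_neg (by omega), add_zero, Polynomial.coeff_coe] at h2
      exact h2
    exact ⟨algebraMap R[X] B q + c, by rw [map_mul, map_pow, mul_add]⟩
  jac := (pairX_henselian hB).jac (Ideal.mem_span_singleton_self _)
  jac' := by
    rw [hψ, Polynomial.coe_X, Ideal.mem_jacobson_bot]
    intro y
    exact PowerSeries.isUnit_iff_constantCoeff.2 (by simp)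

theorem isLocalization_transport {L' : Type u} [CommRing L'] (e : L' ≃+* LaurentSeries R)
    [Algebra (PowerSeries R) L'] (he : ∀ f : PowerSeries R, e (algebraMap (PowerSeries R) L' f) = HahnSeries.ofPowerSeries ℤ R f) :
    IsLocalization.Away (PowerSeries.X : PowerSeries R) L' := by
  let eA : LaurentSeries R ≃ₐ[PowerSeries R] L' := AlgEquiv.ofRingEquiv (f := e.symm) fun f => by
    rw [LaurentSeries.coe_algebraMap, ← he, RingEquiv.symm_apply_apply]
  exact IsLocalization.isLocalization_of_algEquiv (Submonoid.powers (PowerSeries.X : PowerSeries R)) eA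

end Groth.Agent.DenseProj
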