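import Mathlib

/-! Invertible ideals containing a regular element. -/

set_option autoImplicit false
universe u

open TensorProduct

namespace Groth.Agent.DenseProj

variable {S : Type u} [CommRing S]

theorem projective_of_mul_eq_span {I I' : Ideal S} {q : S} (hq : ∀ x, q * x = 0 → x = 0)
    (h : I * I' = Ideal.span {q}) : Module.Projective S I := by
  classical
  have hP : ∀ z ∈ I * I', ∃ (ι : Type u) (_ : Fintype ι) (F : I →ₗ[S] (ι → S)) (G : (ι → S) →ₗ[S] I),
      ∀ x, q • G (F x) = z • x := by
    intro z hz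
    induction hz using Submodule.mul_induction_on' with
    | mem_mul_mem a ha b hb =>
      have hc : ∀ x : I, ∃ c : S, (x : S) * b = q * c := fun x =>
        (Ideal.mem_span_singleton.1 (h ▸ Ideal.mul_mem_mul x.2 hb))
      choose c hc using hc
      have hadd : ∀ x y, c (x + y) = c x + c y := fun x y => sub_eq_zero.1 (hq _ (by
        rw [mul_sub, mul_add, ← hc, ← hc, ← hc, Submodule.coe_add]; ring))
      have hsmul : ∀ (r : S) x, c (r • x) = r * c x := fun r x => sub_eq_zero.1 (hq _ (by
        rw [mul_sub, ← hc, mul_left_comm, ← hc, Submodule.coe_smul, smul_eq_mul]; ring))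
      refine ⟨PUnit, inferInstance,
        { toFun := fun x _ => c x
          map_add' := fun x y => funext fun _ => hadd x y
          map_smul' := fun r x => funext fun _ => hsmul r x },
        (LinearMap.toSpanSingleton S I ⟨a, ha⟩).comp (LinearMap.proj PUnit.unit), fun x => ?_⟩
      refine Subtype.ext ?_
      show q * (c x * a) = a * b * x
      rw [← mul_assoc, ← hc]; ring
    | add z _ w _ hz hw =>
      obtain ⟨ι, _, F, G, hFG⟩ := hz
      obtain ⟨ι', _, F', G', hFG'⟩ := hw
      refine ⟨ι ⊕ ι', inferInstance,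
        { toFun := fun x => Sum.elim (F x) (F' x)
          map_add' := fun x y => by funext i; cases i <;> simp
          map_smul' := fun r x => by funext i; cases i <;> simp },
        G.comp (LinearMap.funLeft S S Sum.inl) + G'.comp (LinearMap.funLeft S S Sum.inr), fun x => ?_⟩
      show q • (G (fun i => Sum.elim (F x) (F' x) (Sum.inl i)) + G' (fun i => Sum.elim (F x) (F' x) (Sum.inr i))) = _
      simp only [Sum.elim_inl, Sum.elim_inr, smul_add, hFG, hFG', add_smul]
  obtain ⟨ι, _, F, G, hFG⟩ := hP q (h ▸ Ideal.mem_span_singleton_self q)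
  refine Module.Projective.of_split F G (LinearMap.ext fun x => Subtype.ext (sub_eq_zero.1 (hq _ ?_)))
  have := congrArg Subtype.val (hFG x)
  rw [Submodule.coe_smul, Submodule.coe_smul, smul_eq_mul, smul_eq_mul] at this
  rw [mul_sub, LinearMap.comp_apply, LinearMap.id_apply, this, sub_self]

theorem invertible_of_mul_eq_span {I I' : Ideal S} {q : S} (hq : ∀ x, q * x = 0 → x = 0)
    (h : I * I' = Ideal.span {q}) : Module.Invertible S I := by
  haveI := projective_of_mul_eq_span hq h
  have hinjq : Function.Injective (LinearMap.toSpanSingleton S S q) := fun x y hxy => sub_eq_zero.1 (hq _ (by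
    have hxy' : x * q = y * q := hxy
    linear_combination hxy'))
  let e0 : S ≃ₗ[S] (Ideal.span {q} : Ideal S) := (LinearEquiv.ofInjective _ hinjq).trans
    (LinearEquiv.ofEq _ _ (LinearMap.span_singleton_eq_range S S q).symm)
  let μ : I ⊗[S] I' →ₗ[S] (Ideal.span {q} : Ideal S) :=
    TensorProduct.lift (LinearMap.mk₂ S (fun a b => ⟨(a : S) * b, h ▸ Ideal.mul_mem_mul a.2 b.2⟩)
      (fun a a' b => Subtype.ext (by simp [add_mul])) (fun r a b => Subtype.ext (by simp [mul_assoc]))
      (fun a b b' => Subtype.ext (by simp [mul_add])) (fun r a b => Subtype.ext (by simp [mul_left_comm])))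
  have hsurj : Function.Surjective μ := by
    suffices hs : ∀ z ∈ I * I', ∃ t, (μ t : S) = z by
      rintro ⟨z, hz⟩
      obtain ⟨t, ht⟩ := hs z (h ▸ hz)
      exact ⟨t, Subtype.ext ht⟩
    intro z hz
    induction hz using Submodule.mul_induction_on' with
    | mem_mul_mem a ha b hb => exact ⟨⟨a, ha⟩ ⊗ₜ ⟨b, hb⟩, rfl⟩
    | add z hz w hw e1 e2 =>
      obtain ⟨t1, ht1⟩ := e1
      obtain ⟨t2, ht2⟩ := e2
      exact ⟨t1 + t2, by rw [map_add, Submodule.coe_add, ht1, ht2]⟩
  have hinj : Function.Injective μ := by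
    haveI : Module.Flat S I := Module.Flat.of_projective
    have h1 : Function.Injective ((I'.subtype).lTensor I) :=
      Module.Flat.lTensor_preserves_injective_linearMap _ I'.injective_subtype
    have h2 : I.subtype ∘ₗ (TensorProduct.rid S I).toLinearMap ∘ₗ (I'.subtype).lTensor I =
        (Ideal.span {q} : Ideal S).subtype ∘ₗ μ := TensorProduct.ext' fun a b => by
      simp [μ, mul_comm]
    have h3 := congrArg DFunLike.coe h2
    intro x y hxy
    refine h1 ((TensorProduct.rid S I).injective (I.injective_subtype ?_))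
    have e1 := congrFun h3 x
    have e2 := congrFun h3 y
    simp only [LinearMap.comp_apply, LinearEquiv.coe_coe] at e1 e2
    rw [hxy, ← e2] at e1
    exact e1
  exact .left ((LinearEquiv.ofBijective μ ⟨hinj, hsurj⟩).trans e0.symm)

/-- an invertible module with a functional is an ideal -/
theorem exists_mul_eq_span {M : Type u} [AddCommGroup M] [Module S M] [Module.Invertible S M]
    (g : M →ₗ[S] S) (x₀ : M) :
    ∃ J' : Ideal S, LinearMap.range g * J' = Ideal.span {g x₀} ∧ g x₀ ∈ J' := by
  let J' : Ideal S := LinearMap.range ((Module.Dual.eval S M x₀))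
  have sym : ∀ (f : M →ₗ[S] S) (y : M), g y * f x₀ = g x₀ * f y := fun f y => by
    have := congrArg (LinearMap.mul' S S ∘ₗ TensorProduct.map g f) (Module.Invertible.tmul_comm (R := S) (m₁ := y) (m₂ := x₀))
    simpa using this
  refine ⟨J', le_antisymm (Ideal.mul_le.2 ?_) ((Ideal.span_singleton_le_iff_mem _).2 ?_), ⟨g, rfl⟩⟩
  · rintro _ ⟨y, rfl⟩ _ ⟨f, rfl⟩
    exact Ideal.mem_span_singleton.2 ⟨f y, sym f y⟩
  · obtain ⟨z, hz⟩ := (Module.Invertible.linearEquiv S M).surjective 1
    have key : ∀ w : Module.Dual S M ⊗[S] M, g x₀ * contractLeft S M w ∈ LinearMap.range g * J' := by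
      intro w
      induction w using TensorProduct.induction_on with
      | zero => simp
      | add a b ha hb => rw [map_add, mul_add]; exact add_mem ha hb
      | tmul f y =>
        rw [contractLeft_apply, ← sym f y]
        exact Ideal.mul_mem_mul ⟨y, rfl⟩ ⟨f, rfl⟩
    have := key z
    rwa [show contractLeft S M z = 1 from hz, mul_one] at this

/-- a functional whose image is comaximal to an ideal with principal quotient -/
theorem exists_functional {M : Type u} [AddCommGroup M] [Module S M] [Module.Invertible S M] (N : Ideal S)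
    [IsDomain (S ⧸ N)] [IsPrincipalIdealRing (S ⧸ N)] :
    ∃ g : M →ₗ[S] S, LinearMap.range g ⊔ N = ⊤ := by
  have : IsGCDMonoid (S ⧸ N) := inferInstance
  obtain ⟨e⟩ := (Module.Invertible.free_iff_linearEquiv (R := S ⧸ N) (M := (S ⧸ N) ⊗[S] M)).1 inferInstance
  let f : M →ₗ[S] S ⧸ N := (e.toLinearMap.restrictScalars S) ∘ₗ TensorProduct.mk S (S ⧸ N) M 1
  obtain ⟨g, hg⟩ := Module.projective_lifting_property (N.mkQ) f (Submodule.mkQ_surjective _)
  refine ⟨g, (Ideal.eq_top_iff_one _).2 ?_⟩
  have key : ∀ z, ∃ y, f y = e z := by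
    intro z
    induction z using TensorProduct.induction_on with
    | zero => exact ⟨0, by simp⟩
    | add a b ha hb =>
      obtain ⟨y, hy⟩ := ha
      obtain ⟨y', hy'⟩ := hb
      exact ⟨y + y', by rw [map_add, map_add, hy, hy']⟩
    | tmul s y =>
      obtain ⟨s, rfl⟩ := Ideal.Quotient.mk_surjective s
      refine ⟨s • y, ?_⟩
      show e ((1 : S ⧸ N) ⊗ₜ (s • y)) = e (Ideal.Quotient.mk N s ⊗ₜ y)
      rw [← smul_tmul, Algebra.smul_def, mul_one]
      rfl
  obtain ⟨y, hy⟩ := key (e.symm 1)
  rw [e.apply_symm_apply, ← hg] at hy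
  refine Submodule.mem_sup.2 ⟨g y, ⟨y, rfl⟩, 1 - g y, ?_, by ring⟩
  rw [← Ideal.Quotient.eq, map_one]
  exact hy.symm

/-- base change of an invertible ideal is the extended ideal, when that is invertible -/
theorem nonempty_baseChange_equiv_map {L : Type u} [CommRing L] [Algebra S L] (I : Ideal S)
    [Module.Invertible S I] [Module.Invertible L (I.map (algebraMap S L))] :
    Nonempty (L ⊗[S] I ≃ₗ[L] (I.map (algebraMap S L))) := by
  let f0 : I →ₗ[S] (I.map (algebraMap S L)) :=
    { toFun := fun x => ⟨algebraMap S L x, Ideal.mem_map_of_mem _ x.2⟩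
      map_add' := fun x y => Subtype.ext (map_add _ _ _)
      map_smul' := fun r x => Subtype.ext (by simp [Algebra.smul_def]) }
  let f := LinearMap.liftBaseChange L f0
  have hf : Function.Surjective f := by
    rintro ⟨z, hz⟩
    induction hz using Submodule.span_induction with
    | mem w hw =>
      obtain ⟨x, hx, rfl⟩ := hw
      exact ⟨1 ⊗ₜ ⟨x, hx⟩, Subtype.ext (by simp [f, f0])⟩
    | zero => exact ⟨0, Subtype.ext (by simp)⟩
    | add a b _ _ ha hb =>
      obtain ⟨y, hy⟩ := ha
      obtain ⟨y', hy'⟩ := hb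
      exact ⟨y + y', by rw [map_add, hy, hy']; rfl⟩
    | smul c a _ ha =>
      obtain ⟨y, hy⟩ := ha
      exact ⟨c • y, by rw [map_smul, hy]; rfl⟩
  exact ⟨LinearEquiv.ofBijective f (Module.Invertible.bijective_of_surjective hf)⟩

/-- a module is the ideal of values of an injective functional -/
theorem nonempty_equiv_range {M : Type u} [AddCommGroup M] [Module S M] [Module.Invertible S M]
    (g : M →ₗ[S] S) [Module.Invertible S (LinearMap.range g)] : Nonempty (M ≃ₗ[S] LinearMap.range g) :=
  ⟨LinearEquiv.ofBijective g.rangeRestrict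
    (Module.Invertible.bijective_of_surjective g.surjective_rangeRestrict)⟩

end Groth.Agent.DenseProj
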