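import Mathlib

/-!
# Coquand's proof of Traverso's theorem: `Pic R[X] = 0` for a seminormal local ring

The hypothesis is stated directly as: `x ^ 3 = y ^ 2` implies `x = a ^ 2`, `y = a ^ 3`, and `R` reduced.
-/

set_option autoImplicit false
universe u v

open Polynomial

namespace Groth.Agent.Traverso

/-- a normalised rank one decomposition `M = f gᵀ` -/
structure Dec {T : Type v} [CommRing T] {n : ℕ} (M : Fin n → Fin n → T[X]) (f0 g0 : Fin n → T)
    (f g : Fin n → T[X]) : Prop where
  mul : ∀ i j, f i * g j = M i j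
  dot : ∑ i, g i * f i = 1
  f_zero : ∀ i, (f i).coeff 0 = f0 i
  g_zero : ∀ i, (g i).coeff 0 = g0 i

variable {T : Type v} [CommRing T] {n : ℕ}

theorem Dec.map {T' : Type*} [CommRing T'] {M : Fin n → Fin n → T[X]} {f0 g0 : Fin n → T} {f g : Fin n → T[X]}
    (d : Dec M f0 g0 f g) (φ : T →+* T') :
    Dec (fun i j => (M i j).map φ) (fun i => φ (f0 i)) (fun i => φ (g0 i)) (fun i => (f i).map φ)
      (fun i => (g i).map φ) where
  mul i j := by rw [← Polynomial.map_mul, d.mul]
  dot := by simp only [← Polynomial.map_mul, ← Polynomial.map_sum, d.dot, Polynomial.map_one]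
  f_zero i := by rw [coeff_map, d.f_zero]
  g_zero i := by rw [coeff_map, d.g_zero]

theorem Dec.sum_zero {M : Fin n → Fin n → T[X]} {f0 g0 : Fin n → T} {f g : Fin n → T[X]}
    (d : Dec M f0 g0 f g) : ∑ i, g0 i * f0 i = 1 := by
  have := congrArg (fun p : T[X] => p.coeff 0) d.dot
  simpa [finset_sum_coeff, mul_coeff_zero, d.f_zero, d.g_zero] using this

/-- over a reduced ring the normalised decomposition is unique -/
theorem Dec.unique [IsReduced T] {M : Fin n → Fin n → T[X]} {f0 g0 : Fin n → T} {f g f' g' : Fin n → T[X]}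
    (d : Dec M f0 g0 f g) (d' : Dec M f0 g0 f' g') : f = f' ∧ g = g' := by
  set u := ∑ j, g j * f' j with hu
  set w := ∑ j, g' j * f j with hw
  have h1 : ∀ i, f' i = u * f i := fun i => by
    calc f' i = ∑ j, f' i * (g' j * f' j) := by rw [← Finset.mul_sum, d'.dot, mul_one]
      _ = ∑ j, f i * (g j * f' j) := Finset.sum_congr rfl fun j _ => by
          rw [← mul_assoc, ← mul_assoc, d'.mul, d.mul]
      _ = u * f i := by rw [← Finset.mul_sum, mul_comm]
  have h1' : ∀ i, f i = w * f' i := fun i => by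
    calc f i = ∑ j, f i * (g j * f j) := by rw [← Finset.mul_sum, d.dot, mul_one]
      _ = ∑ j, f' i * (g' j * f j) := Finset.sum_congr rfl fun j _ => by
          rw [← mul_assoc, ← mul_assoc, d'.mul, d.mul]
      _ = w * f' i := by rw [← Finset.mul_sum, mul_comm]
  have huw : u * w = 1 := by
    calc u * w = ∑ j, u * (g' j * f j) := by rw [hw, Finset.mul_sum]
      _ = ∑ j, g' j * f' j := Finset.sum_congr rfl fun j _ => by rw [h1 j]; ring
      _ = 1 := d'.dot
  obtain ⟨-, hnil⟩ := Polynomial.isUnit_iff_coeff_isUnit_isNilpotent.1 (IsUnit.of_mul_eq_one w huw)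
  have hu1 : u = 1 := by
    ext k
    rcases Nat.eq_zero_or_pos k with rfl | hk
    · rw [hu, finset_sum_coeff, coeff_one_zero]
      simp only [mul_coeff_zero, d.g_zero, d'.f_zero, d.sum_zero]
    · rw [(hnil k (by omega)).eq_zero, coeff_one, if_neg (by omega)]
  have hf : f = f' := funext fun i => by rw [h1 i, hu1, one_mul]
  refine ⟨hf, funext fun j => ?_⟩
  calc g j = ∑ i, g' i * (f i * g j) := by
        simp only [← mul_assoc, ← Finset.sum_mul]
        rw [show ∑ i, g' i * f i = 1 from hf ▸ d'.dot, one_mul]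
    _ = ∑ i, g' i * (f' i * g' j) := Finset.sum_congr rfl fun i _ => by rw [d.mul, d'.mul]
    _ = g' j := by simp only [← mul_assoc, ← Finset.sum_mul]; rw [d'.dot, one_mul]

/-- over a field -/
theorem exists_dec_field {K : Type v} [Field K] (M : Fin n → Fin n → K[X]) (f0 g0 : Fin n → K)
    (hminor : ∀ i j k l, M i j * M k l = M i l * M k j) (htr : ∑ i, M i i = 1)
    (h0 : ∀ i j, (M i j).coeff 0 = f0 i * g0 j) (hsum : ∑ i, g0 i * f0 i = 1) :
    ∃ f g, Dec M f0 g0 f g := by
  classical
  obtain ⟨j0, -, hj0⟩ : ∃ j0 ∈ Finset.univ, M j0 j0 ≠ 0 := Finset.exists_ne_zero_of_sum_ne_zero (by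
    rw [htr]; exact one_ne_zero)
  let I := Ideal.span (Set.range fun i => M i j0)
  let d := Submodule.IsPrincipal.generator I
  have hdI : d ∈ I := Submodule.IsPrincipal.generator_mem I
  obtain ⟨a, ha⟩ := (Ideal.mem_span_range_iff_exists_fun (R := K[X])).1 hdI
  choose f hf using fun i => (Submodule.IsPrincipal.mem_iff_eq_smul_generator I).1
    (Ideal.subset_span ⟨i, rfl⟩ : M i j0 ∈ I)
  simp only [smul_eq_mul] at hf
  change ∀ i, M i j0 = f i * d at hf
  have hd : d ≠ 0 := fun h => hj0 (by rw [hf, h, mul_zero])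
  have hfd : ∑ i, a i * f i = 1 := by
    refine mul_right_cancel₀ hd ?_
    rw [Finset.sum_mul, one_mul]
    conv_rhs => rw [← ha]
    exact Finset.sum_congr rfl fun i _ => by rw [hf, mul_assoc]
  let g := fun j => ∑ i, a i * M i j
  have hmul : ∀ i j, f i * g j = M i j := fun i j => by
    have : ∀ l, f i * M l j = f l * M i j := fun l => by
      refine mul_right_cancel₀ hd ?_
      rw [mul_right_comm, ← hf, mul_right_comm, ← hf, hminor i j0 l j, mul_comm]
    simp only [g, Finset.mul_sum]
    simp only [mul_left_comm (f i), this, ← mul_assoc, ← Finset.sum_mul, hfd, one_mul]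
  have hdot : ∑ i, g i * f i = 1 := by rw [← htr]; exact Finset.sum_congr rfl fun i _ => by rw [mul_comm, hmul]
  set c := ∑ j, g0 j * (f j).coeff 0 with hc
  have hsum' : ∑ j, (g j).coeff 0 * (f j).coeff 0 = 1 := by
    have := congrArg (fun p : K[X] => p.coeff 0) hdot
    simpa [finset_sum_coeff, mul_coeff_zero] using this
  have hfc : ∀ i, (f i).coeff 0 = c * f0 i := fun i => by
    calc (f i).coeff 0 = ∑ j, (f i * g j).coeff 0 * (f j).coeff 0 := by
          simp only [mul_coeff_zero, mul_assoc, ← Finset.mul_sum, hsum', mul_one]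
      _ = ∑ j, f0 i * (g0 j * (f j).coeff 0) := Finset.sum_congr rfl fun j _ => by rw [hmul, h0, mul_assoc]
      _ = c * f0 i := by rw [← Finset.mul_sum, mul_comm]
  have hc0 : c ≠ 0 := fun h => one_ne_zero (α := K) (by rw [← hsum']; simp [hfc, h])
  refine ⟨fun i => Polynomial.C c⁻¹ * f i, fun j => Polynomial.C c * g j, ⟨fun i j => ?_, ?_, fun i => ?_, fun j => ?_⟩⟩
  · rw [mul_mul_mul_comm, ← map_mul, inv_mul_cancel₀ hc0, map_one, one_mul, hmul]
  · rw [← hdot]
    exact Finset.sum_congr rfl fun i _ => by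
      rw [mul_mul_mul_comm, ← map_mul, mul_inv_cancel₀ hc0, map_one, one_mul]
  · rw [coeff_C_mul, hfc, ← mul_assoc, inv_mul_cancel₀ hc0, one_mul]
  · rw [coeff_C_mul]
    calc c * (g j).coeff 0 = ∑ l, g0 l * ((f l).coeff 0 * (g j).coeff 0) := by
          rw [hc, Finset.sum_mul]; exact Finset.sum_congr rfl fun l _ => mul_assoc _ _ _
      _ = ∑ l, g0 l * f0 l * g0 j := Finset.sum_congr rfl fun l _ => by
          rw [← mul_coeff_zero, hmul, h0, mul_assoc]
      _ = g0 j := by rw [← Finset.sum_mul, hsum, one_mul]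

variable {R : Type u} [CommRing R] [Algebra R T]

theorem reflect_sum' {ι : Type*} {S : Type*} [CommRing S] (N : ℕ) (s : Finset ι) (p : ι → S[X]) :
    reflect N (∑ i ∈ s, p i) = ∑ i ∈ s, reflect N (p i) := by
  classical
  induction s using Finset.induction with
  | empty => simp
  | insert i s hi ih => simp [Finset.sum_insert hi, reflect_add, ih]

/-- the coefficients of a decomposition of a matrix over `R[X]` are integral over `R` -/
theorem isIntegral_coeff {M : Fin n → Fin n → R[X]} {f0 g0 : Fin n → R} {f g : Fin n → T[X]}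
    (d : Dec (fun i j => (M i j).map (algebraMap R T)) (fun i => algebraMap R T (f0 i))
      (fun i => algebraMap R T (g0 i)) f g)
    (hsum : ∑ i, g0 i * f0 i = 1) (h0 : ∀ i j, (M i j).coeff 0 = f0 i * g0 j) (N : ℕ)
    (hf : ∀ i, (f i).natDegree ≤ N) (hg : ∀ i, (g i).natDegree ≤ N) (i : Fin n) (k : ℕ) :
    IsIntegral R ((f i).coeff k) := by
  classical
  have key : ∀ h0' : Fin n → R, ∑ l, h0' l * f0 l = 1 → ∀ k,
      IsIntegral R ((∑ l, Polynomial.C (algebraMap R T (h0' l)) * f l).coeff k) := by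
    intro h' hh' k
    let F := reflect N (∑ l, Polynomial.C (algebraMap R T (h' l)) * f l)
    have degf : (∑ l, Polynomial.C (algebraMap R T (h' l)) * f l).natDegree ≤ N :=
      natDegree_sum_le_of_forall_le _ _ fun l _ => (natDegree_C_mul_le _ _).trans (hf l)
    have degg : (∑ l, Polynomial.C (algebraMap R T (f0 l)) * g l).natDegree ≤ N :=
      natDegree_sum_le_of_forall_le _ _ fun l _ => (natDegree_C_mul_le _ _).trans (hg l)
    have hFm : F.Monic := by
      refine monic_of_natDegree_le_of_coeff_eq_one N (natDegree_reflect_le.trans (max_le le_rfl degf)) ?_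
      rw [coeff_reflect, revAt_le le_rfl, Nat.sub_self, finset_sum_coeff]
      simp only [coeff_C_mul, d.f_zero, ← map_mul, ← map_sum, hh', map_one]
    have hHle : (∑ l, ∑ l', Polynomial.C (h' l * f0 l') * M l l').coeff 0 = 1 := by
      simp only [finset_sum_coeff, coeff_C_mul, h0]
      calc ∑ x, ∑ y, h' x * f0 y * (f0 x * g0 y) = (∑ x, h' x * f0 x) * ∑ y, g0 y * f0 y := by
            rw [Finset.sum_mul_sum]
            exact Finset.sum_congr rfl fun x _ => Finset.sum_congr rfl fun y _ => by ring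
        _ = 1 := by rw [hh', hsum, one_mul]
    -- a monic polynomial over `R` divisible by `F`
    obtain ⟨D, hD⟩ : ∃ D, D = max (N + N) (∑ l, ∑ l', Polynomial.C (h' l * f0 l') * M l l').natDegree := ⟨_, rfl⟩
    let H' := reflect D (∑ l, ∑ l', Polynomial.C (h' l * f0 l') * M l l')
    have hH'm : H'.Monic := by
      refine monic_of_natDegree_le_of_coeff_eq_one D (natDegree_reflect_le.trans (max_le le_rfl (by omega))) ?_
      rw [coeff_reflect, revAt_le le_rfl, Nat.sub_self, hHle]
    have hFH : F ∣ H'.map (algebraMap R T) := by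
      have hmap : (∑ l, ∑ l', Polynomial.C (h' l * f0 l') * M l l').map (algebraMap R T) =
          (∑ l, Polynomial.C (algebraMap R T (h' l)) * f l) * ∑ l, Polynomial.C (algebraMap R T (f0 l)) * g l := by
        rw [Polynomial.map_sum, Finset.sum_mul_sum]
        refine Finset.sum_congr rfl fun l _ => ?_
        rw [Polynomial.map_sum]
        refine Finset.sum_congr rfl fun l' _ => ?_
        rw [Polynomial.map_mul, Polynomial.map_C, map_mul, map_mul, mul_mul_mul_comm, d.mul]
      refine ⟨reflect (D - N) (∑ l, Polynomial.C (algebraMap R T (f0 l)) * g l), ?_⟩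
      rw [← reflect_mul _ _ degf (degg.trans (by omega)), ← reflect_map, hmap, show N + (D - N) = D by omega]
    have := Polynomial.isIntegral_coeff_of_dvd H' F hH'm hFm hFH (revAt N k)
    rwa [coeff_reflect, revAt_invol] at this
  have h1 := key g0 hsum k
  have h2 := key (fun l => g0 l + ((if l = i then 1 else 0) - f0 i * g0 l)) (by
    simp only [add_mul, sub_mul, ite_mul, one_mul, zero_mul, Finset.sum_add_distrib, Finset.sum_sub_distrib,
      Finset.sum_ite_eq', Finset.mem_univ, if_true, mul_assoc, ← Finset.mul_sum, hsum, mul_one]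
    ring) k
  simp only [finset_sum_coeff, coeff_C_mul, map_add, map_sub, map_mul, add_mul, sub_mul, Finset.sum_add_distrib,
    Finset.sum_sub_distrib, mul_assoc, ← Finset.mul_sum] at h1 h2
  simp only [apply_ite (algebraMap R T), map_one, map_zero, apply_ite Polynomial.C, ite_mul, one_mul, zero_mul,
    Finset.sum_ite_eq', Finset.mem_univ, if_true, coeff_add, coeff_sub, coeff_C_mul, finset_sum_coeff] at h2
  have := (h2.sub h1).add ((isIntegral_algebraMap (x := f0 i)).mul h1)
  convert this using 1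
  ring

theorem Dec.swap {T : Type v} [CommRing T] {M : Fin n → Fin n → T[X]} {f0 g0 : Fin n → T} {f g : Fin n → T[X]}
    (d : Dec M f0 g0 f g) : Dec (fun i j => M j i) g0 f0 g f where
  mul i j := by rw [mul_comm, d.mul]
  dot := by rw [← d.dot]; exact Finset.sum_congr rfl fun i _ => mul_comm _ _
  f_zero := d.g_zero
  g_zero := d.f_zero

theorem eq_of_sq_eq_of_cube_eq {T : Type*} [CommRing T] [IsReduced T] {u v : T} (h2 : u ^ 2 = v ^ 2) (h3 : u ^ 3 = v ^ 3) :
    u = v := by
  refine sub_eq_zero.1 (IsNilpotent.eq_zero ⟨3, ?_⟩)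
  linear_combination (4 : T) * h3 - 3 * (u + v) * h2

/-- the element `st` descends if its square and cube do -/
theorem mem_range_of_sq_cube [IsReduced T] (hinj : Function.Injective (algebraMap R T))
    (hsn : ∀ x y : R, x ^ 3 = y ^ 2 → ∃ a, x = a ^ 2 ∧ y = a ^ 3) {z : T}
    (h2 : z ^ 2 ∈ (algebraMap R T).range) (h3 : z ^ 3 ∈ (algebraMap R T).range) :
    z ∈ (algebraMap R T).range := by
  obtain ⟨x, hx⟩ := h2
  obtain ⟨y, hy⟩ := h3
  obtain ⟨a, rfl, rfl⟩ := hsn x y (hinj (by rw [map_pow, map_pow, hx, hy]; ring))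
  exact ⟨a, eq_of_sq_eq_of_cube_eq (by rw [← map_pow, hx]) (by rw [← map_pow, hy])⟩

/-- a decomposition over a reduced algebra is defined over the residue field of a minimal prime, up to denominators -/
theorem exists_mul_coeff_mem {Q : Type v} [CommRing Q] [Algebra R Q] [IsReduced Q] {J : Ideal R}
    {p : Ideal R} [hp : p.IsPrime] (hpmin : p ∈ J.minimalPrimes) (hJQ : ∀ x ∈ J, algebraMap R Q x = 0)
    {M : Fin n → Fin n → R[X]} {f0 g0 : Fin n → R} {f g : Fin n → Q[X]}
    (d : Dec (fun i j => (M i j).map (algebraMap R Q)) (fun i => algebraMap R Q (f0 i))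
      (fun i => algebraMap R Q (g0 i)) f g)
    (hminor : ∀ i j k l, M i j * M k l = M i l * M k j) (htr : ∑ i, M i i = 1)
    (h0 : ∀ i j, (M i j).coeff 0 = f0 i * g0 j) (hsum : ∑ i, g0 i * f0 i = 1) (i : Fin n) (k : ℕ) :
    (∃ s ∉ p, algebraMap R Q s * (f i).coeff k ∈ (algebraMap R Q).range) ∧
      ∃ s ∉ p, algebraMap R Q s * (g i).coeff k ∈ (algebraMap R Q).range := by
  classical
  let Mq := Algebra.algebraMapSubmonoid Q p.primeCompl
  let χ : R →+* Localization Mq := (algebraMap Q (Localization Mq)).comp (algebraMap R Q)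
  have hpu : ∀ s ∈ p.primeCompl, IsUnit (χ s) := fun s hs =>
    IsLocalization.map_units (Localization Mq) (⟨_, ⟨s, hs, rfl⟩⟩ : Mq)
  have hp0 : p ≤ RingHom.ker χ := by
    intro x hx
    rw [RingHom.mem_ker]
    obtain ⟨s, hs, m, hm⟩ : ∃ s ∉ p, ∃ m : ℕ, (s * x) ^ m ∈ J := by
      by_contra hne
      push Not at hne
      let Mset : Submonoid R := p.primeCompl ⊔ Submonoid.powers x
      obtain ⟨q, hq, hJq, hqd⟩ := Ideal.exists_le_prime_disjoint J Mset (by
        rw [Set.disjoint_left]
        intro z hzJ hz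
        obtain ⟨a, ha, _, ⟨m, rfl⟩, rfl⟩ := Submonoid.mem_sup.1 hz
        refine hne a ha m ?_
        rcases Nat.eq_zero_or_pos m with rfl | hm
        · exact absurd (hpmin.1.2 (show a * x ^ 0 ∈ J from hzJ)) (by simpa using ha)
        · rw [mul_pow, show a ^ m = a ^ (m - 1) * a by rw [← pow_succ, Nat.sub_add_cancel hm], mul_assoc]
          exact J.mul_mem_left _ hzJ)
      have hqp : q ≤ p := fun z hz => by
        by_contra hzp
        exact Set.disjoint_left.1 hqd hz (Submonoid.mem_sup_left hzp)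
      exact Set.disjoint_left.1 hqd (hpmin.2 ⟨hq, hJq⟩ hqp hx) (Submonoid.mem_sup_right (Submonoid.mem_powers x))
    have h1 : χ (s * x) = 0 := IsNilpotent.eq_zero ⟨m, by
      rw [← map_pow, RingHom.comp_apply, hJQ _ hm, map_zero]⟩
    rw [map_mul] at h1
    exact (hpu s hs).mul_right_eq_zero.1 h1
  let ν : p.ResidueField →+* Localization Mq := Ideal.ResidueField.lift p χ hp0 hpu
  have hν : ∀ r : R, ν (algebraMap R p.ResidueField r) = χ r := fun r => Ideal.ResidueField.lift_algebraMap p χ hp0 hpu r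
  obtain ⟨fκ, gκ, dκ⟩ := exists_dec_field (fun i j => (M i j).map (algebraMap R p.ResidueField))
    (fun i => algebraMap R p.ResidueField (f0 i)) (fun i => algebraMap R p.ResidueField (g0 i))
    (fun i j k l => by simp only [← Polynomial.map_mul, hminor i j k l])
    (by rw [← Polynomial.map_sum, htr, Polynomial.map_one])
    (fun i j => by rw [coeff_map, h0, map_mul])
    (by simp only [← map_mul, ← map_sum, hsum, map_one])
  have dL := d.map (algebraMap Q (Localization Mq))
  have dL' := dκ.map ν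
  simp only [Polynomial.map_map, show (algebraMap Q (Localization Mq)).comp (algebraMap R Q) = χ from rfl] at dL
  simp only [Polynomial.map_map, hν, show ν.comp (algebraMap R p.ResidueField) = χ from RingHom.ext hν] at dL'
  obtain ⟨hff, hgg⟩ := dL.unique dL'
  have hdesc : ∀ c : Q, algebraMap Q (Localization Mq) c ∈ ν.range → ∃ s ∉ p, algebraMap R Q s * c ∈ (algebraMap R Q).range := by
    rintro c ⟨z, hz⟩
    obtain ⟨r, s, hs, hz'⟩ : ∃ r s, s ∉ p ∧ z * algebraMap R p.ResidueField s = algebraMap R p.ResidueField r := by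
      obtain ⟨a, ⟨b, hb⟩, rfl⟩ := IsLocalization.exists_mk'_eq (nonZeroDivisors (R ⧸ p)) z
      obtain ⟨a, rfl⟩ := Ideal.Quotient.mk_surjective a
      obtain ⟨b, rfl⟩ := Ideal.Quotient.mk_surjective b
      refine ⟨a, b, fun hbp => nonZeroDivisors.ne_zero hb (Ideal.Quotient.eq_zero_iff_mem.2 hbp), ?_⟩
      rw [IsScalarTower.algebraMap_apply R (R ⧸ p) p.ResidueField, IsScalarTower.algebraMap_apply R (R ⧸ p) p.ResidueField,
        Ideal.Quotient.algebraMap_eq]
      exact IsLocalization.mk'_spec p.ResidueField _ ⟨_, hb⟩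
    have h1 : algebraMap Q (Localization Mq) (c * algebraMap R Q s) = algebraMap Q (Localization Mq) (algebraMap R Q r) := by
      show _ = χ r
      rw [map_mul, show algebraMap Q (Localization Mq) (algebraMap R Q s) = χ s from rfl, ← hz, ← hν, ← hν,
        ← map_mul, hz']
    obtain ⟨⟨_, s', hs', rfl⟩, hts⟩ := (IsLocalization.eq_iff_exists Mq (Localization Mq)).1 h1
    exact ⟨s' * s, fun h => (hp.mem_or_mem h).elim hs' hs, s' * r, by
      rw [map_mul, map_mul]; linear_combination -hts⟩
  refine ⟨hdesc _ ⟨(fκ i).coeff k, ?_⟩, hdesc _ ⟨(gκ i).coeff k, ?_⟩⟩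
  · rw [← coeff_map, ← congrFun hff i, coeff_map]
  · rw [← coeff_map, ← congrFun hgg i, coeff_map]

/-- descent of the decomposition from a reduced over-ring -/
theorem coeff_mem_range [IsReduced T] (hinj : Function.Injective (algebraMap R T))
    (hsn : ∀ x y : R, x ^ 3 = y ^ 2 → ∃ a, x = a ^ 2 ∧ y = a ^ 3)
    {M : Fin n → Fin n → R[X]} {f0 g0 : Fin n → R} {f g : Fin n → T[X]}
    (d : Dec (fun i j => (M i j).map (algebraMap R T)) (fun i => algebraMap R T (f0 i))
      (fun i => algebraMap R T (g0 i)) f g)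
    (hminor : ∀ i j k l, M i j * M k l = M i l * M k j) (htr : ∑ i, M i i = 1)
    (h0 : ∀ i j, (M i j).coeff 0 = f0 i * g0 j) (hsum : ∑ i, g0 i * f0 i = 1) :
    (∀ i k, (f i).coeff k ∈ (algebraMap R T).range) ∧ ∀ i k, (g i).coeff k ∈ (algebraMap R T).range := by
  classical
  obtain ⟨N, hN⟩ : ∃ N, ∀ i, (f i).natDegree ≤ N ∧ (g i).natDegree ≤ N :=
    ⟨Finset.univ.sup (fun i => (f i).natDegree + (g i).natDegree), fun i =>
      ⟨le_trans (Nat.le_add_right _ _) (Finset.le_sup (f := fun i => (f i).natDegree + (g i).natDegree) (Finset.mem_univ i)),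
       le_trans (Nat.le_add_left _ _) (Finset.le_sup (f := fun i => (f i).natDegree + (g i).natDegree) (Finset.mem_univ i))⟩⟩
  have hfi := isIntegral_coeff d hsum h0 N (fun i => (hN i).1) (fun i => (hN i).2)
  have hgi := isIntegral_coeff (M := fun i j => M j i) (f0 := g0) (g0 := f0) d.swap
    (by rw [← hsum]; exact Finset.sum_congr rfl fun i _ => mul_comm _ _)
    (fun i j => by rw [h0, mul_comm]) N (fun i => (hN i).2) (fun i => (hN i).1)
  let gens : Set T := (fun p : Fin n × Fin (N + 1) => (f p.1).coeff p.2) '' Set.univ ∪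
    (fun p : Fin n × Fin (N + 1) => (g p.1).coeff p.2) '' Set.univ
  have hfin : gens.Finite := (Set.finite_univ.image _).union (Set.finite_univ.image _)
  let S := Algebra.adjoin R gens
  have hS : (Subalgebra.toSubmodule S).FG := fg_adjoin_of_finite hfin (by
    rintro x (⟨p, -, rfl⟩ | ⟨p, -, rfl⟩)
    · exact hfi _ _
    · exact hgi _ _)
  have hcf : ∀ i k, (f i).coeff k ∈ S := fun i k => by
    by_cases hk : k ≤ N
    · exact Algebra.subset_adjoin (Or.inl ⟨(i, ⟨k, by omega⟩), trivial, rfl⟩)
    · rw [coeff_eq_zero_of_natDegree_lt (by have := (hN i).1; omega)]; exact zero_mem _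
  have hcg : ∀ i k, (g i).coeff k ∈ S := fun i k => by
    by_cases hk : k ≤ N
    · exact Algebra.subset_adjoin (Or.inr ⟨(i, ⟨k, by omega⟩), trivial, rfl⟩)
    · rw [coeff_eq_zero_of_natDegree_lt (by have := (hN i).2; omega)]; exact zero_mem _
  let J : Ideal R :=
    { carrier := {x | ∀ t ∈ S, algebraMap R T x * t ∈ (algebraMap R T).range}
      add_mem' := fun {a b} ha hb t ht => by rw [map_add, add_mul]; exact add_mem (ha t ht) (hb t ht)
      zero_mem' := fun t _ => by rw [map_zero, zero_mul]; exact zero_mem _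
      smul_mem' := fun c x hx t ht => by
        rw [smul_eq_mul, map_mul, mul_assoc]
        exact mul_mem ⟨c, rfl⟩ (hx t ht) }
  suffices hJ : (1 : R) ∈ J from
    ⟨fun i k => by simpa using hJ _ (hcf i k), fun i k => by simpa using hJ _ (hcg i k)⟩
  by_contra hJ1
  obtain ⟨Mx, hMx, hJMx⟩ := Ideal.exists_le_maximal J fun h => hJ1 (h ▸ Submodule.mem_top)
  obtain ⟨p, hpmin, -⟩ := Ideal.exists_minimalPrimes_le hJMx
  haveI hp : p.IsPrime := hpmin.1.1
  -- the extended conductor is radical in `S`
  let JS : Ideal S :=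
    { carrier := {s | ∃ x ∈ J, algebraMap R T x = (s : T)}
      add_mem' := fun {a b} ⟨x, hx, hxa⟩ ⟨y, hy, hyb⟩ => ⟨x + y, add_mem hx hy, by simp [hxa, hyb]⟩
      zero_mem' := ⟨0, zero_mem _, by simp⟩
      smul_mem' := fun c s ⟨x, hx, hxs⟩ => by
        obtain ⟨y, hy⟩ := hx (c : T) c.2
        refine ⟨y, fun t ht => ?_, by rw [hy, hxs]; simp [mul_comm]⟩
        rw [hy, mul_assoc]
        exact hx _ (mul_mem c.2 ht) }
  have hrad : JS.IsRadical := by
    rw [Ideal.isRadical_iff_pow_one_lt 2 one_lt_two]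
    rintro s ⟨x, hx, hxs⟩
    simp only [SubmonoidClass.coe_pow] at hxs
    have hz : ∀ t ∈ S, (s : T) * t ∈ (algebraMap R T).range := fun t ht => by
      refine mem_range_of_sq_cube hinj hsn ?_ ?_
      · rw [mul_pow, ← hxs]; exact hx _ (pow_mem ht 2)
      · rw [show ((s : T) * t) ^ 3 = (s : T) ^ 2 * ((s : T) * t ^ 3) by ring, ← hxs]
        exact hx _ (mul_mem s.2 (pow_mem ht 3))
    obtain ⟨y, hy⟩ := hz 1 (one_mem _)
    rw [mul_one] at hy
    exact ⟨y, fun t ht => by rw [hy]; exact hz t ht, hy⟩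
  haveI : IsReduced (S ⧸ JS) := (Ideal.isRadical_iff_quotient_reduced JS).1 hrad
  let fS : Fin n → S[X] := fun i => ∑ k ∈ Finset.range (N + 1), monomial k ⟨(f i).coeff k, hcf i k⟩
  let gS : Fin n → S[X] := fun i => ∑ k ∈ Finset.range (N + 1), monomial k ⟨(g i).coeff k, hcg i k⟩
  have hfS : ∀ i, (fS i).map S.val.toRingHom = f i := fun i => by
    rw [Polynomial.map_sum]
    conv_rhs => rw [(f i).as_sum_range' (N + 1) (by have := (hN i).1; omega)]
    simp
  have hgS : ∀ i, (gS i).map S.val.toRingHom = g i := fun i => by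
    rw [Polynomial.map_sum]
    conv_rhs => rw [(g i).as_sum_range' (N + 1) (by have := (hN i).2; omega)]
    simp
  have hval : Function.Injective S.val.toRingHom := Subtype.val_injective
  have hRS : ∀ q : R[X], (q.map (algebraMap R S)).map S.val.toRingHom = q.map (algebraMap R T) := fun q => by
    rw [Polynomial.map_map]; rfl
  have dS : Dec (fun i j => (M i j).map (algebraMap R S)) (fun i => algebraMap R S (f0 i))
      (fun i => algebraMap R S (g0 i)) fS gS := by
    refine ⟨fun i j => Polynomial.map_injective _ hval (by rw [Polynomial.map_mul, hfS, hgS, hRS]; exact d.mul i j),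
      Polynomial.map_injective _ hval (by
        rw [Polynomial.map_sum]; simp only [Polynomial.map_mul, hfS, hgS, Polynomial.map_one]; exact d.dot),
      fun i => hval ?_, fun i => hval ?_⟩
    · rw [← coeff_map, hfS]; exact d.f_zero i
    · rw [← coeff_map, hgS]; exact d.g_zero i
  have dQ := dS.map (Ideal.Quotient.mk JS)
  simp only [Polynomial.map_map] at dQ
  have hdesc : ∀ (c : T) (hc : c ∈ S), (∃ s ∉ p, algebraMap R (S ⧸ JS) s * Ideal.Quotient.mk JS ⟨c, hc⟩ ∈
      (algebraMap R (S ⧸ JS)).range) → ∃ s ∉ p, algebraMap R T s * c ∈ (algebraMap R T).range := by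
    rintro c hc ⟨s, hs, r, hr⟩
    have hmem : algebraMap R S s * (⟨c, hc⟩ : S) - algebraMap R S r ∈ JS := by
      rw [← Ideal.Quotient.eq_zero_iff_mem, map_sub, map_mul, sub_eq_zero]
      exact hr.symm
    obtain ⟨x, -, hxc⟩ := hmem
    refine ⟨s, hs, x + r, ?_⟩
    simp only [Subalgebra.coe_mul, Subalgebra.coe_sub, Subalgebra.coe_algebraMap] at hxc
    rw [map_add, hxc]
    ring
  have hJQ : ∀ x ∈ J, algebraMap R (S ⧸ JS) x = 0 := fun x hx => by
    show Ideal.Quotient.mk JS (algebraMap R S x) = 0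
    rw [Ideal.Quotient.eq_zero_iff_mem]
    exact ⟨x, hx, rfl⟩
  have hcoe : ∀ i k, ((fS i).coeff k : T) = (f i).coeff k ∧ ((gS i).coeff k : T) = (g i).coeff k := fun i k =>
    ⟨by rw [← hfS, coeff_map]; rfl, by rw [← hgS, coeff_map]; rfl⟩
  have hgen : ∀ c ∈ gens, ∃ s ∉ p, algebraMap R T s * c ∈ (algebraMap R T).range := by
    rintro c (⟨⟨i, k⟩, -, rfl⟩ | ⟨⟨i, k⟩, -, rfl⟩)
    · refine hdesc _ (hcf i k) ?_
      have := (exists_mul_coeff_mem hpmin hJQ dQ hminor htr h0 hsum i k).1
      rwa [coeff_map, show (fS i).coeff k = ⟨_, hcf i k⟩ from Subtype.ext (hcoe i k).1] at this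
    · refine hdesc _ (hcg i k) ?_
      have := (exists_mul_coeff_mem hpmin hJQ dQ hminor htr h0 hsum i k).2
      rwa [coeff_map, show (gS i).coeff k = ⟨_, hcg i k⟩ from Subtype.ext (hcoe i k).2] at this
  have hall : ∀ c ∈ S, ∃ s ∉ p, algebraMap R T s * c ∈ (algebraMap R T).range := by
    intro c hc
    induction hc using Algebra.adjoin_induction with
    | mem x hx => exact hgen x hx
    | algebraMap r => exact ⟨1, fun h => hp.ne_top ((Ideal.eq_top_iff_one p).2 h), r, by simp⟩
    | add x y _ _ hx hy =>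
      obtain ⟨a, ha, u, hu⟩ := hx
      obtain ⟨b, hb, v, hv⟩ := hy
      exact ⟨a * b, fun h => (hp.mem_or_mem h).elim ha hb, b * u + a * v, by
        rw [map_add, map_mul, map_mul, map_mul, hu, hv]; ring⟩
    | mul x y _ _ hx hy =>
      obtain ⟨a, ha, u, hu⟩ := hx
      obtain ⟨b, hb, v, hv⟩ := hy
      exact ⟨a * b, fun h => (hp.mem_or_mem h).elim ha hb, u * v, by
        rw [map_mul, map_mul, hu, hv]; ring⟩
  obtain ⟨G, hG⟩ := hS
  choose s hs hsc using fun c : {c // c ∈ G} => hall c.1 (hG ▸ Submodule.subset_span c.2 : c.1 ∈ Subalgebra.toSubmodule S)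
  have hprod : ∀ t ∈ S, algebraMap R T (∏ c, s c) * t ∈ (algebraMap R T).range := by
    intro t ht
    have ht' : t ∈ Submodule.span R (G : Set T) := hG.symm ▸ ht
    clear ht
    induction ht' using Submodule.span_induction with
    | mem x hx =>
      rw [← Finset.mul_prod_erase _ _ (Finset.mem_univ (⟨x, hx⟩ : {c // c ∈ G})), map_mul, mul_right_comm]
      exact mul_mem (hsc ⟨x, hx⟩) ⟨_, rfl⟩
    | zero => rw [mul_zero]; exact zero_mem _
    | add x y _ _ hx hy =>
      rw [mul_add]; exact add_mem hx hy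
    | smul r x _ hx =>
      rw [Algebra.smul_def, mul_left_comm]; exact mul_mem ⟨r, rfl⟩ hx
  have hJp : J ≤ p := hpmin.1.2
  obtain ⟨c, -, hc⟩ := (hp.prod_mem_iff).1 (hJp (hprod : (∏ c, s c) ∈ J))
  exact hs c hc

/-- Traverso-Swan, in matrix form -/
theorem exists_dec [IsReduced R] (hsn : ∀ x y : R, x ^ 3 = y ^ 2 → ∃ a, x = a ^ 2 ∧ y = a ^ 3)
    (M : Fin n → Fin n → R[X]) (f0 g0 : Fin n → R)
    (hminor : ∀ i j k l, M i j * M k l = M i l * M k j) (htr : ∑ i, M i i = 1)
    (h0 : ∀ i j, (M i j).coeff 0 = f0 i * g0 j) (hsum : ∑ i, g0 i * f0 i = 1) :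
    ∃ f g : Fin n → R[X], Dec M f0 g0 f g := by
  classical
  let T := (p : PrimeSpectrum R) → p.asIdeal.ResidueField
  let ev : (p : PrimeSpectrum R) → T →+* p.asIdeal.ResidueField := fun p => Pi.evalRingHom _ p
  have hev : ∀ p, (ev p).comp (algebraMap R T) = algebraMap R _ := fun p => rfl
  have hinj : Function.Injective (algebraMap R T) := by
    rw [injective_iff_map_eq_zero]
    intro x hx
    refine IsNilpotent.eq_zero ?_
    rw [← mem_nilradical, nilradical_eq_sInf, Submodule.mem_sInf]
    intro q hq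
    haveI : Ideal.IsPrime q := hq
    have := congrFun hx ⟨q, hq⟩
    exact (Ideal.algebraMap_residueField_eq_zero (I := q)).1 this
  choose fp gp dp using fun p : PrimeSpectrum R =>
    exists_dec_field (fun i j => (M i j).map (algebraMap R p.asIdeal.ResidueField))
      (fun i => algebraMap R _ (f0 i)) (fun i => algebraMap R _ (g0 i))
      (fun i j k l => by simp only [← Polynomial.map_mul, hminor i j k l])
      (by rw [← Polynomial.map_sum, htr, Polynomial.map_one])
      (fun i j => by rw [coeff_map, h0, map_mul])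
      (by simp only [← map_mul, ← map_sum, hsum, map_one])
  obtain ⟨D, hD⟩ : ∃ D, ∀ i j, (M i j).natDegree ≤ D :=
    ⟨Finset.univ.sup fun q : Fin n × Fin n => (M q.1 q.2).natDegree, fun i j =>
      Finset.le_sup (f := fun q : Fin n × Fin n => (M q.1 q.2).natDegree) (Finset.mem_univ (i, j))⟩
  have hbound : ∀ p i, (fp p i).natDegree ≤ D ∧ (gp p i).natDegree ≤ D := by
    intro p i
    obtain ⟨j, -, hj⟩ := Finset.exists_ne_zero_of_sum_ne_zero ((dp p).dot.trans_ne one_ne_zero)
    constructor
    · rcases eq_or_ne (fp p i) 0 with h | h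
      · simp [h]
      · have h2 := natDegree_mul h (left_ne_zero_of_mul hj)
        rw [(dp p).mul] at h2
        have := (natDegree_map_le (f := algebraMap R p.asIdeal.ResidueField) (p := M i j)).trans (hD i j)
        omega
    · rcases eq_or_ne (gp p i) 0 with h | h
      · simp [h]
      · have h2 := natDegree_mul (right_ne_zero_of_mul hj) h
        rw [(dp p).mul] at h2
        have := (natDegree_map_le (f := algebraMap R p.asIdeal.ResidueField) (p := M j i)).trans (hD j i)
        omega
  let f : Fin n → T[X] := fun i => ∑ k ∈ Finset.range (D + 1), monomial k (fun p => (fp p i).coeff k)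
  let g : Fin n → T[X] := fun i => ∑ k ∈ Finset.range (D + 1), monomial k (fun p => (gp p i).coeff k)
  have hf : ∀ p i, (f i).map (ev p) = fp p i := fun p i => by
    rw [Polynomial.map_sum]
    conv_rhs => rw [(fp p i).as_sum_range' (D + 1) (by have := (hbound p i).1; omega)]
    simp only [Polynomial.map_monomial]
    rfl
  have hg : ∀ p i, (g i).map (ev p) = gp p i := fun p i => by
    rw [Polynomial.map_sum]
    conv_rhs => rw [(gp p i).as_sum_range' (D + 1) (by have := (hbound p i).2; omega)]
    simp only [Polynomial.map_monomial]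
    rfl
  have mext : ∀ a b : T[X], (∀ p, a.map (ev p) = b.map (ev p)) → a = b := fun a b h => by
    refine Polynomial.ext fun k => funext fun p => ?_
    have := congrArg (fun q => q.coeff k) (h p)
    simp only [coeff_map] at this
    exact this
  have dT : Dec (fun i j => (M i j).map (algebraMap R T)) (fun i => algebraMap R T (f0 i))
      (fun i => algebraMap R T (g0 i)) f g := by
    refine ⟨fun i j => mext _ _ fun p => ?_, mext _ _ fun p => ?_, fun i => funext fun p => ?_, fun i => funext fun p => ?_⟩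
    · rw [Polynomial.map_mul, hf, hg, Polynomial.map_map, hev]
      exact (dp p).mul i j
    · rw [Polynomial.map_sum]
      simp only [Polynomial.map_mul, hf, hg, Polynomial.map_one]
      exact (dp p).dot
    · show ev p ((f i).coeff 0) = _
      rw [← coeff_map, hf]; exact (dp p).f_zero i
    · show ev p ((g i).coeff 0) = _
      rw [← coeff_map, hg]; exact (dp p).g_zero i
  obtain ⟨hfR, hgR⟩ := coeff_mem_range hinj hsn dT hminor htr h0 hsum
  choose F hF using fun i => (Polynomial.lifts_iff_coeff_lifts (f i)).2 (fun k => hfR i k)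
  choose G hG using fun i => (Polynomial.lifts_iff_coeff_lifts (g i)).2 (fun k => hgR i k)
  simp only [coe_mapRingHom] at hF hG
  refine ⟨F, G, fun i j => Polynomial.map_injective _ hinj (by rw [Polynomial.map_mul, hF, hG]; exact dT.mul i j),
    Polynomial.map_injective _ hinj (by
      rw [Polynomial.map_sum]; simp only [Polynomial.map_mul, hF, hG, Polynomial.map_one]; exact dT.dot),
    fun i => hinj ?_, fun i => hinj ?_⟩
  · rw [← coeff_map, hF]; exact dT.f_zero i
  · rw [← coeff_map, hG]; exact dT.g_zero i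

/-- every invertible `R[X]`-module is free for `R` local seminormal -/
theorem free_of_invertible [IsLocalRing R] [IsReduced R]
    (hsn : ∀ x y : R, x ^ 3 = y ^ 2 → ∃ a, x = a ^ 2 ∧ y = a ^ 3)
    (P : Type u) [AddCommGroup P] [Module R[X] P] [Module.Invertible R[X] P] : Module.Free R[X] P := by
  classical
  obtain ⟨n, π, hπ⟩ := Module.Finite.exists_fin' R[X] P
  obtain ⟨σ, hσ⟩ := Module.projective_lifting_property π LinearMap.id hπ
  have hσ' : ∀ x, π (σ x) = x := fun x => LinearMap.congr_fun hσ x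
  let m : Fin n → P := fun i => π (Pi.single i 1)
  have hexp : ∀ v, π v = ∑ i, v i • m i := fun v => by
    conv_lhs => rw [pi_eq_sum_univ' v]
    simp [m, map_sum, map_smul]
  let M : Fin n → Fin n → R[X] := fun i j => σ (m j) i
  have hminor : ∀ i j k l, M i j * M k l = M i l * M k j := fun i j k l => by
    have := congrArg (LinearMap.mul' R[X] R[X] ∘ₗ TensorProduct.map ((LinearMap.proj i).comp σ) ((LinearMap.proj k).comp σ))
      (Module.Invertible.tmul_comm (R := R[X]) (m₁ := m j) (m₂ := m l))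
    simpa [M] using this
  have hrow : ∀ x i, σ x i = ∑ j, M i j * σ x j := fun x i => by
    conv_lhs => rw [← hσ' x, hexp, map_sum, Finset.sum_apply]
    exact Finset.sum_congr rfl fun j _ => by rw [map_smul, Pi.smul_apply, smul_eq_mul, mul_comm]
  have htr : ∑ i, M i i = 1 := by
    refine sub_eq_zero.1 (eq_of_smul_eq_smul fun x : P => ?_)
    rw [zero_smul]
    refine Function.LeftInverse.injective hσ' ?_
    rw [map_zero, map_smul]
    funext k
    rw [Pi.smul_apply, smul_eq_mul, sub_mul, one_mul, Pi.zero_apply, sub_eq_zero, Finset.sum_mul]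
    conv_rhs => rw [hrow x k]
    refine Finset.sum_congr rfl fun i _ => ?_
    rw [hrow x k, Finset.mul_sum, hrow x i, Finset.mul_sum]
    exact Finset.sum_congr rfl fun j _ => by rw [← mul_assoc, ← mul_assoc, hminor i i k j, mul_comm (M i j)]
  -- normalise at `X = 0`
  let c := fun i j => (M i j).coeff 0
  have hc : ∑ i, c i i = 1 := by
    have := congrArg (fun q : R[X] => q.coeff 0) htr
    simpa [finset_sum_coeff] using this
  have hcm : ∀ i j k l, c i j * c k l = c i l * c k j := fun i j k l => by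
    simp only [c, ← mul_coeff_zero, hminor i j k l]
  obtain ⟨k, hk⟩ : ∃ k, IsUnit (c k k) := by
    by_contra hne
    push Not at hne
    have : (1 : R) ∈ IsLocalRing.maximalIdeal R := hc ▸ sum_mem fun i _ =>
      (IsLocalRing.mem_maximalIdeal _).2 (hne i)
    exact (IsLocalRing.maximalIdeal.isMaximal R).ne_top ((Ideal.eq_top_iff_one _).2 this)
  obtain ⟨v, hv⟩ := hk.exists_left_inv
  have h0 : ∀ i j, (M i j).coeff 0 = c i k * (v * c k j) := fun i j => by
    show c i j = _
    linear_combination (-(c i j)) * hv + v * hcm i j k k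
  have hsum : ∑ i, v * c k i * c i k = 1 := by
    calc ∑ i, v * c k i * c i k = ∑ i, c i i * (v * c k k) := Finset.sum_congr rfl fun i _ => by
          linear_combination v * hcm k i i k
      _ = 1 := by rw [← Finset.sum_mul, hc, one_mul, hv]
  obtain ⟨f, g, d⟩ := exists_dec hsn M _ _ hminor htr h0 hsum
  let φ : P →ₗ[R[X]] R[X] :=
    { toFun := fun x => ∑ i, g i * σ x i
      map_add' := fun x y => by simp [mul_add, Finset.sum_add_distrib]
      map_smul' := fun r x => by simp [Finset.mul_sum, mul_left_comm] }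
  have hσf : ∀ x, σ x = φ x • f := fun x => funext fun i => by
    rw [hrow x i, Pi.smul_apply, smul_eq_mul]
    show _ = (∑ j, g j * σ x j) * f i
    rw [Finset.sum_mul]
    exact Finset.sum_congr rfl fun j _ => by rw [← d.mul]; ring
  refine Module.Free.of_equiv (LinearEquiv.ofLinearMap φ (LinearMap.toSpanSingleton R[X] P (π f)) ?_ ?_).symm
  · refine LinearMap.ext_ring ?_
    show φ ((1 : R[X]) • π f) = 1
    rw [one_smul]
    have h1 : σ (π f) = f := funext fun i => by
      rw [hexp, map_sum, Finset.sum_apply]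
      calc ∑ j, σ (f j • m j) i = ∑ j, f i * (g j * f j) := Finset.sum_congr rfl fun j _ => by
            rw [map_smul, Pi.smul_apply, smul_eq_mul, show σ (m j) i = f i * g j from (d.mul i j).symm]; ring
        _ = f i := by rw [← Finset.mul_sum, d.dot, mul_one]
    show ∑ i, g i * σ (π f) i = 1
    rw [h1, d.dot]
  · refine LinearMap.ext fun x => ?_
    show φ x • π f = x
    rw [← map_smul, ← hσf, hσ']

end Groth.Agent.Traverso
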